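import Groth.Agent.KFlat.Assoc
import Groth.Agent.KFlat.Tensor

/-!
Naturality of the associator and of the symmetry of total tensor products.
-/

set_option autoImplicit false
set_option backward.isDefEq.respectTransparency false
set_option backward.isDefEq.respectTransparency.types false
set_option linter.unusedSectionVars false
universe u v₁ u₁

namespace Groth.Agent.RHomCx

open CategoryTheory Limits HomologicalComplex Groth.Agent.KFlat

section Assoc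

variable {A : Type u₁} [Category.{v₁} A] [Preadditive A] (B : A ⥤ A ⥤ A) [B.Additive] [∀ X, (B.obj X).Additive]
  [∀ (K L : CochainComplex A ℤ), HomologicalComplex.HasMapBifunctor K L B (ComplexShape.up ℤ)]
  (a : bifunctorComp₁₂ B B ≅ bifunctorComp₂₃ B B)

lemma mapBifunctorAssociator_natural₂ (K₁ : CochainComplex A ℤ) {K₂ L₂ : CochainComplex A ℤ} (f : K₂ ⟶ L₂)
    (K₃ : CochainComplex A ℤ)
    [HasGoodTrifunctor₁₂Obj B B K₁ K₂ K₃ (ComplexShape.up ℤ) (ComplexShape.up ℤ)]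
    [HasGoodTrifunctor₂₃Obj B B K₁ K₂ K₃ (ComplexShape.up ℤ) (ComplexShape.up ℤ) (ComplexShape.up ℤ)]
    [HasGoodTrifunctor₁₂Obj B B K₁ L₂ K₃ (ComplexShape.up ℤ) (ComplexShape.up ℤ)]
    [HasGoodTrifunctor₂₃Obj B B K₁ L₂ K₃ (ComplexShape.up ℤ) (ComplexShape.up ℤ) (ComplexShape.up ℤ)] :
    mapBifunctorMap (mapBifunctorMap (𝟙 K₁) f B (ComplexShape.up ℤ)) (𝟙 K₃) B (ComplexShape.up ℤ) ≫
        (mapBifunctorAssociator a K₁ L₂ K₃ (ComplexShape.up ℤ) (ComplexShape.up ℤ) (ComplexShape.up ℤ)).hom =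
      (mapBifunctorAssociator a K₁ K₂ K₃ (ComplexShape.up ℤ) (ComplexShape.up ℤ) (ComplexShape.up ℤ)).hom ≫
        mapBifunctorMap (𝟙 K₁) (mapBifunctorMap f (𝟙 K₃) B (ComplexShape.up ℤ)) B (ComplexShape.up ℤ) := by
  ext n i₁ i₂ i₃ h
  have h' : i₁ + i₂ + i₃ = n := h
  let hf := mapBifunctorMap (𝟙 K₁) f B (ComplexShape.up ℤ)
  let hg := mapBifunctorMap f (𝟙 K₃) B (ComplexShape.up ℤ)
  have hl : mapBifunctor₁₂.ι B B K₁ K₂ K₃ (ComplexShape.up ℤ) (ComplexShape.up ℤ) i₁ i₂ i₃ n h ≫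
      (mapBifunctorMap hf (𝟙 K₃) B (ComplexShape.up ℤ)).f n =
      (B.map ((B.obj (K₁.X i₁)).map (f.f i₂))).app (K₃.X i₃) ≫
        mapBifunctor₁₂.ι B B K₁ L₂ K₃ (ComplexShape.up ℤ) (ComplexShape.up ℤ) i₁ i₂ i₃ n h := by
    rw [mapBifunctor₁₂.ι_eq B B K₁ K₂ K₃ _ _ i₁ i₂ i₃ (i₁ + i₂) n rfl h',
      mapBifunctor₁₂.ι_eq B B K₁ L₂ K₃ _ _ i₁ i₂ i₃ (i₁ + i₂) n rfl h', Category.assoc, ι_mapBifunctorMap]
    simp only [HomologicalComplex.id_f, CategoryTheory.Functor.map_id, Category.id_comp, NatTrans.id_app]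
    rw [← NatTrans.comp_app_assoc, ← B.map_comp, ← NatTrans.comp_app_assoc, ← B.map_comp, ι_mapBifunctorMap]
    simp only [HomologicalComplex.id_f, CategoryTheory.Functor.map_id, Category.id_comp, NatTrans.id_app]
  have hr : mapBifunctor₂₃.ι B B K₁ K₂ K₃ (ComplexShape.up ℤ) (ComplexShape.up ℤ) (ComplexShape.up ℤ) i₁ i₂ i₃ n h ≫
      (mapBifunctorMap (𝟙 K₁) hg B (ComplexShape.up ℤ)).f n =
      (B.obj (K₁.X i₁)).map ((B.map (f.f i₂)).app (K₃.X i₃)) ≫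
        mapBifunctor₂₃.ι B B K₁ L₂ K₃ (ComplexShape.up ℤ) (ComplexShape.up ℤ) (ComplexShape.up ℤ) i₁ i₂ i₃ n h := by
    have h'' : i₁ + (i₂ + i₃) = n := by omega
    rw [mapBifunctor₂₃.ι_eq B B K₁ K₂ K₃ _ _ _ i₁ i₂ i₃ (i₂ + i₃) n rfl h'',
      mapBifunctor₂₃.ι_eq B B K₁ L₂ K₃ _ _ _ i₁ i₂ i₃ (i₂ + i₃) n rfl h'', Category.assoc, ι_mapBifunctorMap]
    simp only [HomologicalComplex.id_f, CategoryTheory.Functor.map_id, Category.id_comp, NatTrans.id_app]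
    rw [← Functor.map_comp_assoc, ← Functor.map_comp_assoc, ι_mapBifunctorMap]
    simp only [HomologicalComplex.id_f, CategoryTheory.Functor.map_id, Category.id_comp, NatTrans.id_app,
      Category.comp_id]
  change _ ≫ (mapBifunctorMap hf (𝟙 K₃) B (ComplexShape.up ℤ)).f n ≫
      (mapBifunctorAssociatorX a K₁ L₂ K₃ _ _ _ n).hom = _ ≫ (mapBifunctorAssociatorX a K₁ K₂ K₃ _ _ _ n).hom ≫ _
  rw [reassoc_of% hl, ι_mapBifunctorAssociatorX_hom, ι_mapBifunctorAssociatorX_hom_assoc]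
  refine Eq.trans ?_ (congrArg (_ ≫ ·) hr.symm)
  refine (Category.assoc _ _ _).symm.trans ((congrArg (· ≫ _) ?_).trans (Category.assoc _ _ _))
  exact congrArg (fun t => t.app (K₃.X i₃)) ((a.hom.app (K₁.X i₁)).naturality (f.f i₂))

lemma mapBifunctorAssociator_natural₃ (K₁ K₂ : CochainComplex A ℤ) {K₃ L₃ : CochainComplex A ℤ} (f : K₃ ⟶ L₃)
    [HasGoodTrifunctor₁₂Obj B B K₁ K₂ K₃ (ComplexShape.up ℤ) (ComplexShape.up ℤ)]
    [HasGoodTrifunctor₂₃Obj B B K₁ K₂ K₃ (ComplexShape.up ℤ) (ComplexShape.up ℤ) (ComplexShape.up ℤ)]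
    [HasGoodTrifunctor₁₂Obj B B K₁ K₂ L₃ (ComplexShape.up ℤ) (ComplexShape.up ℤ)]
    [HasGoodTrifunctor₂₃Obj B B K₁ K₂ L₃ (ComplexShape.up ℤ) (ComplexShape.up ℤ) (ComplexShape.up ℤ)] :
    mapBifunctorMap (𝟙 (mapBifunctor K₁ K₂ B (ComplexShape.up ℤ))) f B (ComplexShape.up ℤ) ≫
        (mapBifunctorAssociator a K₁ K₂ L₃ (ComplexShape.up ℤ) (ComplexShape.up ℤ) (ComplexShape.up ℤ)).hom =
      (mapBifunctorAssociator a K₁ K₂ K₃ (ComplexShape.up ℤ) (ComplexShape.up ℤ) (ComplexShape.up ℤ)).hom ≫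
        mapBifunctorMap (𝟙 K₁) (mapBifunctorMap (𝟙 K₂) f B (ComplexShape.up ℤ)) B (ComplexShape.up ℤ) := by
  ext n i₁ i₂ i₃ h
  have h' : i₁ + i₂ + i₃ = n := h
  let hg := mapBifunctorMap (𝟙 K₂) f B (ComplexShape.up ℤ)
  have hl : mapBifunctor₁₂.ι B B K₁ K₂ K₃ (ComplexShape.up ℤ) (ComplexShape.up ℤ) i₁ i₂ i₃ n h ≫
      (mapBifunctorMap (𝟙 (mapBifunctor K₁ K₂ B (ComplexShape.up ℤ))) f B (ComplexShape.up ℤ)).f n =
      (B.obj ((B.obj (K₁.X i₁)).obj (K₂.X i₂))).map (f.f i₃) ≫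
        mapBifunctor₁₂.ι B B K₁ K₂ L₃ (ComplexShape.up ℤ) (ComplexShape.up ℤ) i₁ i₂ i₃ n h := by
    rw [mapBifunctor₁₂.ι_eq B B K₁ K₂ K₃ _ _ i₁ i₂ i₃ (i₁ + i₂) n rfl h',
      mapBifunctor₁₂.ι_eq B B K₁ K₂ L₃ _ _ i₁ i₂ i₃ (i₁ + i₂) n rfl h', Category.assoc, ι_mapBifunctorMap]
    simp only [HomologicalComplex.id_f, CategoryTheory.Functor.map_id, Category.id_comp, NatTrans.id_app]
    exact ((B.map (ιMapBifunctor K₁ K₂ B (ComplexShape.up ℤ) i₁ i₂ (i₁ + i₂) rfl)).naturality_assoc _ _).symm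
  have hr : mapBifunctor₂₃.ι B B K₁ K₂ K₃ (ComplexShape.up ℤ) (ComplexShape.up ℤ) (ComplexShape.up ℤ) i₁ i₂ i₃ n h ≫
      (mapBifunctorMap (𝟙 K₁) hg B (ComplexShape.up ℤ)).f n =
      (B.obj (K₁.X i₁)).map ((B.obj (K₂.X i₂)).map (f.f i₃)) ≫
        mapBifunctor₂₃.ι B B K₁ K₂ L₃ (ComplexShape.up ℤ) (ComplexShape.up ℤ) (ComplexShape.up ℤ) i₁ i₂ i₃ n h := by
    have h'' : i₁ + (i₂ + i₃) = n := by omega
    rw [mapBifunctor₂₃.ι_eq B B K₁ K₂ K₃ _ _ _ i₁ i₂ i₃ (i₂ + i₃) n rfl h'',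
      mapBifunctor₂₃.ι_eq B B K₁ K₂ L₃ _ _ _ i₁ i₂ i₃ (i₂ + i₃) n rfl h'', Category.assoc, ι_mapBifunctorMap]
    simp only [HomologicalComplex.id_f, CategoryTheory.Functor.map_id, Category.id_comp, NatTrans.id_app]
    rw [← Functor.map_comp_assoc, ← Functor.map_comp_assoc, ι_mapBifunctorMap]
    simp only [HomologicalComplex.id_f, CategoryTheory.Functor.map_id, Category.id_comp, NatTrans.id_app]
  change _ ≫ (mapBifunctorMap (𝟙 (mapBifunctor K₁ K₂ B (ComplexShape.up ℤ))) f B (ComplexShape.up ℤ)).f n ≫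
      (mapBifunctorAssociatorX a K₁ K₂ L₃ _ _ _ n).hom = _ ≫ (mapBifunctorAssociatorX a K₁ K₂ K₃ _ _ _ n).hom ≫ _
  rw [reassoc_of% hl, ι_mapBifunctorAssociatorX_hom, ι_mapBifunctorAssociatorX_hom_assoc]
  refine Eq.trans ?_ (congrArg (_ ≫ ·) hr.symm)
  refine (Category.assoc _ _ _).symm.trans ((congrArg (· ≫ _) ?_).trans (Category.assoc _ _ _))
  exact ((a.hom.app (K₁.X i₁)).app (K₂.X i₂)).naturality (f.f i₃)

end Assoc

section Site

variable {C : Type u} [SmallCategory C] {J : GrothendieckTopology C} (O : Sheaf J CommRingCat.{u})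

lemma assocTot_natural₂ (K₁ : CochainComplex (ModSite.Mod O) ℤ) {K₂ L₂ : CochainComplex (ModSite.Mod O) ℤ}
    (f : K₂ ⟶ L₂) (K₃ : CochainComplex (ModSite.Mod O) ℤ) :
    mapBifunctorMap (mapBifunctorMap (𝟙 K₁) f (ModSite.tensorBi O) (ComplexShape.up ℤ)) (𝟙 K₃) (ModSite.tensorBi O)
        (ComplexShape.up ℤ) ≫ (assocTot O K₁ L₂ K₃).hom =
      (assocTot O K₁ K₂ K₃).hom ≫
        mapBifunctorMap (𝟙 K₁) (mapBifunctorMap f (𝟙 K₃) (ModSite.tensorBi O) (ComplexShape.up ℤ)) (ModSite.tensorBi O)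
          (ComplexShape.up ℤ) :=
  have := hasGood₁₂ O K₁ K₂ K₃
  have := hasGood₂₃ O K₁ K₂ K₃
  have := hasGood₁₂ O K₁ L₂ K₃
  have := hasGood₂₃ O K₁ L₂ K₃
  mapBifunctorAssociator_natural₂ (ModSite.tensorBi O) (assocB O) K₁ f K₃

lemma assocTot_natural₃ (K₁ K₂ : CochainComplex (ModSite.Mod O) ℤ) {K₃ L₃ : CochainComplex (ModSite.Mod O) ℤ}
    (f : K₃ ⟶ L₃) :
    mapBifunctorMap (𝟙 (mapBifunctor K₁ K₂ (ModSite.tensorBi O) (ComplexShape.up ℤ))) f (ModSite.tensorBi O)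
        (ComplexShape.up ℤ) ≫ (assocTot O K₁ K₂ L₃).hom =
      (assocTot O K₁ K₂ K₃).hom ≫
        mapBifunctorMap (𝟙 K₁) (mapBifunctorMap (𝟙 K₂) f (ModSite.tensorBi O) (ComplexShape.up ℤ)) (ModSite.tensorBi O)
          (ComplexShape.up ℤ) :=
  have := hasGood₁₂ O K₁ K₂ K₃
  have := hasGood₂₃ O K₁ K₂ K₃
  have := hasGood₁₂ O K₁ K₂ L₃
  have := hasGood₂₃ O K₁ K₂ L₃
  mapBifunctorAssociator_natural₃ (ModSite.tensorBi O) (assocB O) K₁ K₂ f

end Site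

section Swap

variable {A : Type u₁} [Category.{v₁} A] [Abelian A] {B : A ⥤ A ⥤ A} [B.Additive] [∀ X, (B.obj X).Additive]
  [∀ (K L : CochainComplex A ℤ), HomologicalComplex.HasMapBifunctor K L B (ComplexShape.up ℤ)]
  (e : B ≅ B.flip)

lemma ι_swapIso (L K : CochainComplex A ℤ) (p q n : ℤ) (h : p + q = n) :
    ιMapBifunctor L K B (ComplexShape.up ℤ) p q n h ≫ (swapIso e L K).hom.f n =
      (e.hom.app (L.X p)).app (K.X q) ≫
        ((ComplexShape.up ℤ).σ (ComplexShape.up ℤ) (ComplexShape.up ℤ) q p •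
          ιMapBifunctor K L B (ComplexShape.up ℤ) q p n (show q + p = n by omega)) := by
  simp only [swapIso, Iso.trans_hom, HomologicalComplex.comp_f]
  refine (Category.assoc _ _ _).symm.trans ?_
  refine (congrArg (· ≫ _) (HomologicalComplex₂.ιTotal_map (i₁ := p) (i₂ := q) (i₁₂ := n) (h := h) ..)).trans ?_
  refine (Category.assoc _ _ _).trans (congrArg (_ ≫ ·) ?_)
  exact ι_mapBifunctorFlipIso_hom K L B (ComplexShape.up ℤ) q p n _

/-- the symmetry is natural -/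
lemma swapIso_natural {L L' K K' : CochainComplex A ℤ} (a : L ⟶ L') (b : K ⟶ K') :
    mapBifunctorMap a b B (ComplexShape.up ℤ) ≫ (swapIso e L' K').hom =
      (swapIso e L K).hom ≫ mapBifunctorMap b a B (ComplexShape.up ℤ) := by
  refine HomologicalComplex.hom_ext _ _ fun n => mapBifunctor.hom_ext fun p q h => ?_
  have h' : p + q = n := h
  rw [HomologicalComplex.comp_f, HomologicalComplex.comp_f, ι_mapBifunctorMap_assoc, ι_swapIso e L' K' p q n h',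
    reassoc_of% (ι_swapIso e L K p q n h'), Linear.units_smul_comp, ι_mapBifunctorMap, Linear.comp_units_smul,
    Linear.comp_units_smul, Linear.comp_units_smul, Linear.comp_units_smul]
  refine congrArg (_ • ·) ?_
  have h₁ := NatTrans.congr_app (e.hom.naturality (a.f p)) (K.X q)
  have h₂ := (e.hom.app (L'.X p)).naturality (b.f q)
  simp only [NatTrans.comp_app, Functor.flip_map_app, Functor.flip_obj_map, Functor.flip_obj_obj] at h₁ h₂
  rw [reassoc_of% h₂, reassoc_of% h₁]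
  exact congrArg (_ ≫ ·) ((B.map (b.f q)).naturality_assoc (a.f p) _)

end Swap

end Groth.Agent.RHomCx
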