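import Groth.Agent.K0Coh.Basic
import Groth.Agent.DQCoh.Serre
import Mathlib.CategoryTheory.Abelian.Basic

/-!
Coherence of the middle of a five term exact sequence.
-/

set_option autoImplicit false
set_option backward.isDefEq.respectTransparency false
set_option backward.isDefEq.respectTransparency.types false
set_option linter.style.haveILetI false

universe u

open CategoryTheory Limits AlgebraicGeometry

namespace Groth.Agent.RHomCx

variable {X : Scheme.{u}}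

/-- coherence of the middle of a five term exact sequence -/
theorem isCoh_of_exact₅ [IsLocallyNoetherian X] {A₁ A₂ M A₄ A₅ : X.Modules} (f₁ : A₁ ⟶ A₂) (f₂ : A₂ ⟶ M)
    (f₃ : M ⟶ A₄) (f₄ : A₄ ⟶ A₅) (w₁ : f₁ ≫ f₂ = 0) (w₂ : f₂ ≫ f₃ = 0) (w₃ : f₃ ≫ f₄ = 0)
    (e₁ : (ShortComplex.mk f₁ f₂ w₁).Exact) (e₂ : (ShortComplex.mk f₂ f₃ w₂).Exact)
    (e₃ : (ShortComplex.mk f₃ f₄ w₃).Exact) (h₁ : Coh.IsCoh A₁) (h₂ : Coh.IsCoh A₂) (h₄ : Coh.IsCoh A₄)
    (h₅ : Coh.IsCoh A₅) : Coh.IsCoh M := by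
  have hM : Coh.IsQCoh M := DQCoh.isQCoh_of_exact₅ f₁ f₂ f₃ f₄ w₁ w₂ w₃ e₁ e₂ e₃ h₁.1 h₂.1 h₄.1 h₅.1
  let T : ShortComplex X.Modules := ShortComplex.mk (kernel.ι f₃) (cokernel.π (kernel.ι f₃)) (cokernel.condition _)
  have hT : T.ShortExact := { exact := ShortComplex.exact_cokernel (kernel.ι f₃) }
  haveI : Epi (kernel.lift f₃ f₂ w₂) := e₂.epi_kernelLift
  have hK : Coh.IsCoh T.X₁ := QC.isCoh_of_epi h₂ (QC.isQCoh_kernel hM h₄.1 f₃) (kernel.lift f₃ f₂ w₂)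
  let j : T.X₃ ⟶ A₄ := cokernel.desc (kernel.ι f₃) f₃ (kernel.condition f₃)
  haveI : Mono j := inferInstanceAs (Mono (Abelian.factorThruCoimage f₃))
  have hC : Coh.IsCoh T.X₃ := QC.isCoh_of_mono j h₄ (QC.isQCoh_cokernel hK.1 hM _)
  refine QC.isCoh_iff_finite_sections.2 ⟨hM, fun U => ?_⟩
  haveI := (QC.isCoh_iff_finite_sections.1 hK).2 U
  haveI := (QC.isCoh_iff_finite_sections.1 hC).2 U
  haveI : IsNoetherianRing Γ(X, U.1) := IsLocallyNoetherian.component_noetherian U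
  have hex : Function.Exact (QC.appₗ T.f U.1) (QC.appₗ T.g U.1) := fun m => ⟨fun h =>
    DQCoh.exists_app_eq hT U.1 m h, by
      rintro ⟨a, rfl⟩
      exact ConcreteCategory.congr_hom (congrArg (fun ψ => Scheme.Modules.Hom.app ψ U.1) T.zero) a⟩
  exact Module.Finite.of_exact hex (DQCoh.exists_app_eq' hT hK.1 U.2)

end Groth.Agent.RHomCx
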