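import Groth.Agent.RHomCx.Main
import Mathlib.CategoryTheory.Adjunction.PartialAdjoint

/-!
`RHom(E, -)` exists for every complex `E`.
-/

set_option autoImplicit false
set_option backward.isDefEq.respectTransparency false
set_option backward.isDefEq.respectTransparency.types false
set_option linter.style.haveILetI false
set_option linter.unusedSectionVars false

universe u

open CategoryTheory Limits AlgebraicGeometry HomologicalComplex Opposite

attribute [local instance] HasDerivedCategory.standard

namespace Groth.Agent.RHomCx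

open Groth.Agent.KFlat

variable {X : Scheme.{u}}

/-- the universal property of `Hom(E, I)` -/
lemma bijective_ltMap (E : CochainComplex X.Modules ℤ) (hE : DCoh.IsKFlat E) [DCoh.HasLTensorCx E]
    (I : CochainComplex X.Modules ℤ) [I.IsKInjective] (Z : DCoh.D X) :
    Function.Bijective fun g : Z ⟶ DerivedCategory.Q.obj ((GE E).obj I) =>
      (DCoh.LTensorCx E).map g ≫ (ltCounit E).app ((GE E).obj I) ≫ DerivedCategory.Q.map ((adjE E).counit.app I) := by
  haveI := isKInjective_GE I hE
  haveI : DerivedCategory.Q.EssSurj (C := CochainComplex X.Modules ℤ) := Localization.essSurj _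
    (HomologicalComplex.quasiIso X.Modules (ComplexShape.up ℤ))
  let A := DerivedCategory.Q.objPreimage Z
  let e : DerivedCategory.Q.obj A ≅ Z := DerivedCategory.Q.objObjPreimageIso Z
  have hA := bijective_mate (adjE E) (ltCounit E)
      (fun B => isIso_ltCounit_app_of_kFlat hE B) A I (fun t => KInj.Q_map_surjective t)
      (fun t => KInj.Q_map_surjective t) fun f g h => by
    obtain ⟨H⟩ := KInj.nonempty_homotopy_of_Q_map_eq h
    rw [← mate_sub] at H
    obtain ⟨H'⟩ := (homotopy_mate_iff E (f - g)).2 ⟨H⟩
    exact DerivedCategory.Q_map_eq_of_homotopy _ (Homotopy.equivSubZero.symm H')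
  constructor
  · intro g g' h
    refine (cancel_epi e.hom).1 (hA.1 ?_)
    dsimp only at h ⊢
    rw [Functor.map_comp, Functor.map_comp, Category.assoc, Category.assoc, h]
  · intro t
    obtain ⟨g, hg⟩ := hA.2 ((DCoh.LTensorCx E).map e.hom ≫ t)
    refine ⟨e.inv ≫ g, ?_⟩
    dsimp only at hg ⊢
    rw [Functor.map_comp, Category.assoc, hg, ← Functor.map_comp_assoc, e.inv_hom_id, CategoryTheory.Functor.map_id,
      Category.id_comp]

/-- **existence of `RHom(E, -)`** -/
theorem hasRSheafHom (E : CochainComplex X.Modules ℤ) [DCoh.HasLTensorCx E] : DCoh.HasRSheafHom E := by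
  haveI := hasLTensorCx ((resF X).obj E)
  suffices h : DCoh.HasRSheafHom ((resF X).obj E) by
    obtain ⟨Φ⟩ := nonempty_LTensorCx_iso (K := (resF X).obj E) (L := E) ((resψ X).app E)
    exact Functor.isLeftAdjoint_of_iso Φ
  refine Functor.isLeftAdjoint_of_rightAdjointObjIsDefined_eq_top ?_
  ext L
  simp only [Pi.top_apply, Prop.top_eq_true, iff_true]
  obtain ⟨I, hI, ⟨e⟩⟩ := exists_kInjective_rep L
  haveI := hI
  let E' := (resF X).obj E
  let ε := (ltCounit E').app ((GE E').obj I) ≫ DerivedCategory.Q.map ((adjE E').counit.app I)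
  refine (Functor.rightAdjointObjIsDefined_iff _ _).2 ⟨DerivedCategory.Q.obj ((GE E').obj I), ⟨?_⟩⟩
  exact
    { homEquiv := fun {Z} => (Equiv.ofBijective _ (bijective_ltMap E' (isKFlat_resF E) I Z)).trans
        { toFun := fun t => t ≫ e.hom
          invFun := fun t => t ≫ e.inv
          left_inv := fun t => by simp
          right_inv := fun t => by simp }
      homEquiv_comp := fun {Z Z'} g f => by
        change ((DCoh.LTensorCx E').map (g ≫ f) ≫ ε) ≫ e.hom = (DCoh.LTensorCx E').map g ≫ ((DCoh.LTensorCx E').map f ≫ ε) ≫ e.hom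
        simp only [ε, Functor.map_comp, Category.assoc] }

end Groth.Agent.RHomCx
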