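import Groth.Agent.RHomCx.Dual
import Groth.Agent.RHomCx.Exists
import Groth.Agent.KFlat.LTensorComp

/-!
Duals of perfect complexes: `RHom(K, -) = - ⊗^L K^∨` and `RHom(K^∨, -) = - ⊗^L K`.
-/

set_option autoImplicit false
set_option backward.isDefEq.respectTransparency false
set_option backward.isDefEq.respectTransparency.types false
set_option linter.style.haveILetI false
set_option linter.unusedSectionVars false

universe u

open CategoryTheory Limits AlgebraicGeometry HomologicalComplex MonoidalCategory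

attribute [local instance] HasDerivedCategory.standard

namespace Groth.Agent.RHomCx

open Groth.Agent.KFlat Groth.Agent.ProjForm

variable {X : Scheme.{u}}

/-- the resolved evaluation pairing -/
noncomputable def evR (C J : CochainComplex X.Modules ℤ) : tns ((resF X).obj ((GE C).obj J)) C ⟶ J :=
  (DCoh.tensorCx.map ((resψ X).app ((GE C).obj J))).app C ≫ ev C J

lemma evR_compat {C C' : CochainComplex X.Modules ℤ} (a : C ⟶ C') (J : CochainComplex X.Modules ℤ) :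
    (DCoh.tensorCx.map ((resF X).map ((gmap a).app J))).app C ≫ evR C J =
      (DCoh.tensorCx.obj ((resF X).obj ((GE C').obj J))).map a ≫ evR C' J := by
  simp only [evR]
  rw [← NatTrans.comp_app_assoc, ← Functor.map_comp, (resψ X).naturality, Functor.map_comp, NatTrans.comp_app_assoc]
  refine (congrArg (_ ≫ ·) (ev_compat a J)).trans ?_
  exact (NatTrans.naturality_assoc _ a _).symm

lemma qisOn_resF_map {V : X.Opens} {A B : CochainComplex X.Modules ℤ} (b : A ⟶ B) (hb : QisOn V b) :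
    QisOn V ((resF X).map b) :=
  (qisOn_comm_sq ((resψ X).naturality b) (qisOn_of_quasiIso V _) (qisOn_of_quasiIso V _)).2 hb

section

variable (V : X.Opens) (P : CochainComplex X.Modules ℤ) {I J : CochainComplex X.Modules ℤ} (j : tns P J ⟶ I)

/-- biduality holds for `C` over `V` -/
structure Pair (C : CochainComplex X.Modules ℤ) : Prop where
  psi : QisOn V (RHomCx.psi P j (evR C J))
  psi' : QisOn V (RHomCx.psi P j (swp (evR C J)))
  perf : DCoh.IsPerfect (DCoh.toD (V : Scheme.{u}) ((DCoh.restrictCx V).obj ((GE C).obj J)))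

variable {V P j} [I.IsKInjective] [J.IsKInjective]

theorem pair_iff (hP : DCoh.IsKFlat P) {C C' : CochainComplex X.Modules ℤ} (a : C ⟶ C') (ha : QisOn V a)
    (hC : KFlatOn V C) (hC' : KFlatOn V C') : Pair V P j C ↔ Pair V P j C' := by
  have hg := qisOn_gmap V a hC hC' ha J
  have hb := qisOn_resF_map _ hg
  have hR : ∀ D : CochainComplex X.Modules ℤ, KFlatOn V ((resF X).obj D) := fun D =>
    kFlatOn_of_isKFlat V (isKFlat_resF D)
  have h₁ := qisOn_psi_iff j hP _ a _ _ (evR_compat a J) hb ha hC hC'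
  have h₂ := qisOn_psi_iff j hP a _ _ _ (swp_compat _ _ _ _ (evR_compat a J)) ha hb (hR _) (hR _)
  haveI := (qisOn_iff_quasiIso_restrictCx V _).1 hg
  let hp := asIso (DerivedCategory.Q.map ((DCoh.restrictCx V).map ((gmap a).app J)))
  constructor <;> intro h
  · exact ⟨h₁.2 h.psi, h₂.1 h.psi', DQCoh.perfect_of_iso hp.symm h.perf⟩
  · exact ⟨h₁.1 h.psi, h₂.2 h.psi', DQCoh.perfect_of_iso hp h.perf⟩

theorem pair_of_good (hP : DCoh.IsKFlat P) (u : O₀ X ⟶ J) {C : CochainComplex X.Modules ℤ}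
    (h : Good V P ((DCoh.tensorCx.obj P).map u ≫ j) u C) : Pair V P j C := by
  let G := (GE C).obj (O₀ X)
  let b := (GE C).map u
  have hb := qisOn_resF_map b h.res
  have hψ : QisOn V ((resψ X).app G) := qisOn_of_quasiIso V _
  -- the pairing of `Hom(C, O)` with values in `J`
  have e₁ : psi P j (ev C (O₀ X) ≫ u) = psi P ((DCoh.tensorCx.obj P).map u ≫ j) (ev C (O₀ X)) := by
    simp only [psi, Functor.map_comp, Category.assoc]
  have e₂ : psi P j (swp (ev C (O₀ X)) ≫ u) = psi P ((DCoh.tensorCx.obj P).map u ≫ j) (swp (ev C (O₀ X))) := by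
    simp only [psi, Functor.map_comp, Category.assoc]
  let ε : tns ((resF X).obj G) C ⟶ J := (DCoh.tensorCx.map ((resψ X).app G)).app C ≫ ev C (O₀ X) ≫ u
  have c₁ : (DCoh.tensorCx.map ((resψ X).app G)).app C ≫ (ev C (O₀ X) ≫ u) =
      (DCoh.tensorCx.obj ((resF X).obj G)).map (𝟙 C) ≫ ε := by
    rw [CategoryTheory.Functor.map_id, Category.id_comp]
  have c₂ : (DCoh.tensorCx.map ((resF X).map b)).app C ≫ evR C J =
      (DCoh.tensorCx.obj ((resF X).obj G)).map (𝟙 C) ≫ ε := by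
    simp only [evR, ε]
    rw [CategoryTheory.Functor.map_id, Category.id_comp, ← ev_natural C u, ← NatTrans.comp_app_assoc,
      ← Functor.map_comp, (resψ X).naturality, Functor.map_comp, NatTrans.comp_app_assoc]
    rfl
  have hR : ∀ D : CochainComplex X.Modules ℤ, KFlatOn V ((resF X).obj D) := fun D =>
    kFlatOn_of_isKFlat V (isKFlat_resF D)
  refine ⟨?_, ?_, ?_⟩
  · rw [← qisOn_psi_iff j hP _ _ _ _ c₂ hb (qisOn_id V C) h.flat h.flat,
      qisOn_psi_iff j hP _ _ _ _ c₁ hψ (qisOn_id V C) h.flat h.flat, e₁]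
    exact h.psi
  · refine (qisOn_psi_iff j hP _ _ _ _ (swp_compat _ _ _ _ c₂) (qisOn_id V C) hb (hR _) (hR _)).2
      ((qisOn_psi_iff j hP _ _ _ _ (swp_compat _ _ _ _ c₁) (qisOn_id V C) hψ (hR _) h.gflat).1 ?_)
    have hs : psi P j (swp (ev C (O₀ X) ≫ u)) = psi P ((DCoh.tensorCx.obj P).map u ≫ j) (swp (ev C (O₀ X))) :=
      (congrArg (psi P j) (Category.assoc _ _ _).symm).trans e₂
    exact hs ▸ h.psi'
  · haveI := (qisOn_iff_quasiIso_restrictCx V _).1 h.res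
    exact DQCoh.perfect_of_iso (asIso (DerivedCategory.Q.map ((DCoh.restrictCx V).map b))) h.perf

theorem exists_pair_near (hP : DCoh.IsKFlat P) {K : CochainComplex X.Modules ℤ} (hK : DCoh.IsKFlat K)
    (hKp : DCoh.IsPerfect (DerivedCategory.Q.obj K)) (u : O₀ X ⟶ J) [QuasiIso u]
    [QuasiIso ((DCoh.tensorCx.obj P).map u ≫ j)] (x : X) : ∃ V : X.Opens, x ∈ V ∧ Pair V P j K := by
  classical
  obtain ⟨V₀, hx, hV₀⟩ := hKp x
  obtain ⟨E, hE, ⟨e⟩⟩ := hV₀ K ⟨Iso.refl _⟩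
  have hEk := DerPerf.isKFlat_of_isStrictlyPerfect hE
  obtain ⟨⟨a, b, hab⟩, hfree⟩ := hE
  obtain ⟨W', hx', hW'⟩ := DerPerf.exists_common_free (Finset.Icc a b) E.X (fun i _ => hfree i) ⟨x, hx⟩
  let f : (W' : Scheme.{u}) ⟶ X := W'.ι ≫ V₀.ι
  refine ⟨f.opensRange, ⟨⟨⟨x, hx⟩, hx'⟩, rfl⟩, ?_⟩
  let E' := (DCoh.restrictCx W').obj E
  let c : ((Scheme.Modules.restrictFunctor f).mapHomologicalComplex (ComplexShape.up ℤ)).obj K ≅
      (DCoh.restrictCx W').obj ((DCoh.restrictCx V₀).obj K) :=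
    Hom.isoOfComponents (fun n => (Scheme.Modules.restrictFunctorComp W'.ι V₀.ι).app (K.X n))
      fun s t _ => ((Scheme.Modules.restrictFunctorComp W'.ι V₀.ι).hom.naturality (K.d s t)).symm
  obtain ⟨Z, u', s, hu', hs⟩ := exists_qisOn_to_kInj f E' K
    ⟨DerPerf.restrictCxIso W' e.symm ≪≫ DerivedCategory.Q.mapIso c.symm⟩
  let C := (ProjForm.eC f).obj E'
  have hC : KFlatOn f.opensRange C := kFlatOn_eC f (DerPerf.isKFlat_restrictCx W' hEk)
  have hR : ∀ D : CochainComplex X.Modules ℤ, KFlatOn f.opensRange ((resF X).obj D) := fun D =>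
    kFlatOn_of_isKFlat _ (isKFlat_resF D)
  have hψ : ∀ D : CochainComplex X.Modules ℤ, QisOn f.opensRange ((resψ X).app D) := fun D => qisOn_of_quasiIso _ _
  have h : Pair f.opensRange P j C := pair_of_good hP u (good_eC f hP _ u E'
    (a := a) (b := b) (fun i hi => (Scheme.Modules.restrictFunctor W'.ι).map_isZero (hab i hi)) fun i h1 h2 => by
      obtain ⟨n, ⟨d⟩⟩ := hW' i (Finset.mem_Icc.2 ⟨h1, h2⟩)
      exact ⟨n, ⟨(Scheme.Modules.restrictFunctorIsoPullback W'.ι).app (E.X i) ≪≫ d⟩⟩)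
  have h₁ := (pair_iff hP ((resψ X).app C) (hψ C) (hR _) hC).2 h
  have h₂ := (pair_iff hP ((resF X).map u') (qisOn_resF_map _ hu') (hR _) (hR _)).1 h₁
  have h₃ := (pair_iff hP ((resF X).map s) (qisOn_resF_map _ (qisOn_of_quasiIso _ s)) (hR _) (hR _)).2 h₂
  exact (pair_iff hP ((resψ X).app K) (hψ K) (hR _) (kFlatOn_of_isKFlat _ hK)).1 h₃

end

/-- a resolution of `O[0]` -/
lemma exists_unit_res (X : Scheme.{u}) :
    ∃ (J : CochainComplex X.Modules ℤ) (u : O₀ X ⟶ J), J.IsKInjective ∧ QuasiIso u := by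
  haveI := DerPush.isGrothendieckAbelian_modules X
  obtain ⟨J, u, hJ, hu, -, -⟩ := KInj.exists_kInjective (O₀ X)
  exact ⟨J, u, hJ, hu⟩

/-- representatives adapted to the pairing -/
lemma exists_reps (M : DCoh.D X) {J : CochainComplex X.Modules ℤ} (u : O₀ X ⟶ J) [QuasiIso u] :
    ∃ (P I : CochainComplex X.Modules ℤ) (j : tns P J ⟶ I), DCoh.IsKFlat P ∧ I.IsKInjective ∧
      QuasiIso ((DCoh.tensorCx.obj P).map u ≫ j) ∧ Nonempty (DerivedCategory.Q.obj P ≅ M) ∧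
      Nonempty (DerivedCategory.Q.obj I ≅ M) := by
  haveI := DerPush.isGrothendieckAbelian_modules X
  obtain ⟨P, hP, -, ⟨e⟩⟩ := exists_isKFlat_rep M
  obtain ⟨I, j, hI, hj, -, -⟩ := KInj.exists_kInjective (tns P J)
  haveI := hj
  haveI := quasiIso_obj_map_of_kFlat hP u
  refine ⟨P, I, j, hP, hI, quasiIso_comp _ _, ⟨e⟩, ⟨?_⟩⟩
  exact (asIso (DerivedCategory.Q.map ((DCoh.tensorCx.obj P).map u ≫ j))).symm ≪≫
    DerivedCategory.Q.mapIso (feUnitIso.app P) ≪≫ e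

variable (K : CochainComplex X.Modules ℤ) (hK : DCoh.IsKFlat K) (hKp : DCoh.IsPerfect (DerivedCategory.Q.obj K))

include hK in
/-- `RHom(K, O)` -/
lemma nonempty_dualIso [DCoh.HasLTensorCx K] [DCoh.HasRSheafHom K] {J : CochainComplex X.Modules ℤ} [J.IsKInjective]
    (u : O₀ X ⟶ J) [QuasiIso u] :
    Nonempty ((DCoh.RSheafHom K).obj ((DerivedCategory.singleFunctor X.Modules 0).obj (Coh.structureModule X)) ≅
      DerivedCategory.Q.obj ((GE K).obj J)) := by
  obtain ⟨e⟩ := nonempty_RHom_iso K hK J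
  exact ⟨(DCoh.RSheafHom K).mapIso ((DerivedCategory.singleFunctorIsoCompQ X.Modules 0).app _ ≪≫
    asIso (DerivedCategory.Q.map u)) ≪≫ e⟩

include hK hKp in
/-- **the dual of a perfect complex is perfect** -/
theorem isPerfect_dual [DCoh.HasLTensorCx K] [DCoh.HasRSheafHom K] :
    DCoh.IsPerfect ((DCoh.RSheafHom K).obj ((DerivedCategory.singleFunctor X.Modules 0).obj (Coh.structureModule X))) := by
  obtain ⟨J, u, hJ, hu⟩ := exists_unit_res X
  haveI := hJ
  haveI := hu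
  obtain ⟨e⟩ := nonempty_dualIso K hK u
  refine DQCoh.perfect_of_iso e.symm ((DQCoh.perfect_iff_near _).2 fun x => ?_)
  obtain ⟨P, I, j, hP, hI, hj, -, -⟩ := exists_reps (DerivedCategory.Q.obj (O₀ X)) u
  haveI := hI
  haveI := hj
  obtain ⟨V, hx, hV⟩ := exists_pair_near (j := j) hP hK hKp u x
  obtain ⟨U, g, hg, z, hz, hz'⟩ := (DQCoh.perfect_iff_near _).1 hV.perf ⟨x, hx⟩
  haveI := hg
  exact ⟨U, g ≫ V.ι, inferInstance, z, by simp [hz], DQCoh.perfOn_push g V.ι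
    (DQCoh.perfOn_iso (DQCoh.rdIso V.ι _).symm hz')⟩

include hK hKp in
/-- **duality**: `RHom(K, M) = M ⊗^L K^∨` and `RHom(K^∨, M) = M ⊗^L K` -/
theorem nonempty_dual [DCoh.HasLTensorCx K] [DCoh.HasRSheafHom K] (D : CochainComplex X.Modules ℤ)
    (hD : DCoh.IsKFlat D)
    (hDr : Nonempty (DerivedCategory.Q.obj D ≅
      (DCoh.RSheafHom K).obj ((DerivedCategory.singleFunctor X.Modules 0).obj (Coh.structureModule X))))
    [DCoh.HasLTensorCx D] [DCoh.HasRSheafHom D] (M : DCoh.D X) :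
    Nonempty ((DCoh.LTensorCx D).obj M ≅ (DCoh.RSheafHom K).obj M) ∧
      Nonempty ((DCoh.LTensorCx K).obj M ≅ (DCoh.RSheafHom D).obj M) := by
  obtain ⟨J, u, hJ, hu⟩ := exists_unit_res X
  haveI := hJ
  haveI := hu
  obtain ⟨e⟩ := nonempty_dualIso K hK u
  obtain ⟨d⟩ := hDr
  haveI := isKInjective_GE J hK
  obtain ⟨f, hf⟩ := KInj.Q_map_surjective (K := D) (I := (GE K).obj J) (d.hom ≫ e.hom)
  haveI : QuasiIso f := (DerivedCategory.isIso_Q_map_iff_quasiIso _ _).1 (by rw [hf]; infer_instance)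
  obtain ⟨P, I, j, hP, hI, hj, ⟨eP⟩, ⟨eI⟩⟩ := exists_reps M u
  haveI := hI
  haveI := hj
  let ε : tns D K ⟶ J := (DCoh.tensorCx.map f).app K ≫ ev K J
  let ε₀ : tns ((resF X).obj D) K ⟶ J := (DCoh.tensorCx.map ((resψ X).app D)).app K ≫ ε
  have c₁ : (DCoh.tensorCx.map ((resψ X).app D)).app K ≫ ε =
      (DCoh.tensorCx.obj ((resF X).obj D)).map (𝟙 K) ≫ ε₀ := by
    rw [CategoryTheory.Functor.map_id, Category.id_comp]
  have c₂ : (DCoh.tensorCx.map ((resF X).map f)).app K ≫ evR K J =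
      (DCoh.tensorCx.obj ((resF X).obj D)).map (𝟙 K) ≫ ε₀ := by
    simp only [evR, ε₀, ε]
    rw [CategoryTheory.Functor.map_id, Category.id_comp, ← NatTrans.comp_app_assoc,
      ← Functor.map_comp, (resψ X).naturality, Functor.map_comp, NatTrans.comp_app_assoc]
    rfl
  have hloc : ∀ x : X, ∃ V : X.Opens, x ∈ V ∧ QisOn V (psi P j ε) ∧ QisOn V (psi P j (swp ε)) := fun x => by
    obtain ⟨V, hx, hV⟩ := exists_pair_near (j := j) hP hK hKp u x
    have hKV := kFlatOn_of_isKFlat V hK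
    have hψ : QisOn V ((resψ X).app D) := qisOn_of_quasiIso V _
    have hb := qisOn_resF_map f (qisOn_of_quasiIso V f)
    have hR : ∀ C : CochainComplex X.Modules ℤ, KFlatOn V ((resF X).obj C) := fun C =>
      kFlatOn_of_isKFlat V (isKFlat_resF C)
    refine ⟨V, hx, ?_, ?_⟩
    · rw [← qisOn_psi_iff j hP _ _ _ _ c₁ hψ (qisOn_id V K) hKV hKV,
        qisOn_psi_iff j hP _ _ _ _ c₂ hb (qisOn_id V K) hKV hKV]
      exact hV.psi
    · refine (qisOn_psi_iff j hP _ _ _ _ (swp_compat _ _ _ _ c₁) (qisOn_id V K) hψ (hR _) (kFlatOn_of_isKFlat V hD)).2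
        ((qisOn_psi_iff j hP _ _ _ _ (swp_compat _ _ _ _ c₂) (qisOn_id V K) hb (hR _) (hR _)).1 ?_)
      exact hV.psi'
  haveI : QuasiIso (psi P j ε) := quasiIso_of_qisOn _ fun x =>
    let ⟨V, hx, h, _⟩ := hloc x; ⟨V, hx, h⟩
  haveI : QuasiIso (psi P j (swp ε)) := quasiIso_of_qisOn _ fun x =>
    let ⟨V, hx, _, h⟩ := hloc x; ⟨V, hx, h⟩
  obtain ⟨a⟩ := nonempty_RHom_iso K hK I
  obtain ⟨a'⟩ := nonempty_RHom_iso D hD I
  exact ⟨⟨(DCoh.LTensorCx D).mapIso eP.symm ≪≫ ltIso D hP ≪≫ asIso (DerivedCategory.Q.map (psi P j ε)) ≪≫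
      a.symm ≪≫ (DCoh.RSheafHom K).mapIso eI⟩,
    ⟨(DCoh.LTensorCx K).mapIso eP.symm ≪≫ ltIso K hP ≪≫ asIso (DerivedCategory.Q.map (psi P j (swp ε))) ≪≫
      a'.symm ≪≫ (DCoh.RSheafHom D).mapIso eI⟩⟩

/-- `- ⊗^L` and `RHom` only depend on the class of a K-flat complex -/
theorem nonempty_LTensorCx_congr {A B : CochainComplex X.Modules ℤ}
    (e : DerivedCategory.Q.obj A ≅ DerivedCategory.Q.obj B) [DCoh.HasLTensorCx A] [DCoh.HasLTensorCx B] :
    Nonempty (DCoh.LTensorCx A ≅ DCoh.LTensorCx B) := by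
  obtain ⟨Z, s, hs, g, hg⟩ := DerivedCategory.right_fac e.hom
  haveI := hs
  haveI := hasLTensorCx Z
  haveI : QuasiIso s := (DerivedCategory.isIso_Q_map_iff_quasiIso _ s).1 hs
  haveI : IsIso (DerivedCategory.Q.map g) := by
    have h : DerivedCategory.Q.map g = DerivedCategory.Q.map s ≫ e.hom := by rw [hg, IsIso.hom_inv_id_assoc]
    rw [h]; infer_instance
  haveI : QuasiIso g := (DerivedCategory.isIso_Q_map_iff_quasiIso _ g).1 inferInstance
  obtain ⟨a⟩ := nonempty_LTensorCx_iso s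
  obtain ⟨b⟩ := nonempty_LTensorCx_iso g
  exact ⟨a.symm ≪≫ b⟩

include hK hKp in
/-- **`RHom(L, M) ⊗^L K = RHom(RHom(K, L), M)`** -/
theorem nonempty_RSheafHom_RSheafHom [DCoh.HasLTensorCx K] [DCoh.HasRSheafHom K] (L : CochainComplex X.Modules ℤ)
    [DCoh.HasLTensorCx L] [DCoh.HasRSheafHom L] (D' : CochainComplex X.Modules ℤ)
    (hD' : Nonempty (DerivedCategory.Q.obj D' ≅ (DCoh.RSheafHom K).obj (DerivedCategory.Q.obj L)))
    [DCoh.HasLTensorCx D'] [DCoh.HasRSheafHom D'] (M : DCoh.D X) :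
    Nonempty ((DCoh.LTensorCx K).obj ((DCoh.RSheafHom L).obj M) ≅ (DCoh.RSheafHom D').obj M) := by
  obtain ⟨D, hD, -, ⟨d⟩⟩ := exists_isKFlat_rep
    ((DCoh.RSheafHom K).obj ((DerivedCategory.singleFunctor X.Modules 0).obj (Coh.structureModule X)))
  obtain ⟨d'⟩ := hD'
  haveI := hasLTensorCx D
  haveI := hasRSheafHom D
  let L' := (resF X).obj L
  haveI := hasLTensorCx L'
  haveI := hasRSheafHom L'
  haveI := hasLTensorCx (tns D L')
  let qL := asIso (DerivedCategory.Q.map ((resψ X).app L))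
  obtain ⟨⟨a⟩, -⟩ := nonempty_dual K hK hKp D hD ⟨d⟩ (DerivedCategory.Q.obj L)
  obtain ⟨-, ⟨b⟩⟩ := nonempty_dual K hK hKp D hD ⟨d⟩ ((DCoh.RSheafHom L').obj M)
  obtain ⟨Φ⟩ := nonempty_LTensorCx_congr (A := L') (B := L) qL
  let E : DerivedCategory.Q.obj D' ≅ DerivedCategory.Q.obj (tns D L') :=
    d' ≪≫ a.symm ≪≫ (DCoh.LTensorCx D).mapIso qL.symm ≪≫ ltIso D (isKFlat_resF L) ≪≫
      DerivedCategory.Q.mapIso (swapIso (braid X.sheaf) L' D)
  obtain ⟨Ψ⟩ := nonempty_LTensorCx_congr E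
  let A₁ := ((DCoh.RSheafHomAdj D).comp (DCoh.RSheafHomAdj L')).ofNatIsoLeft
    (ltCompIso D (isKFlat_resF L) ≪≫ Ψ.symm)
  let A₂ := (DCoh.RSheafHomAdj L).ofNatIsoLeft Φ.symm
  exact ⟨(DCoh.LTensorCx K).mapIso ((A₂.rightAdjointUniq (DCoh.RSheafHomAdj L')).app M) ≪≫ b ≪≫
    (A₁.rightAdjointUniq (DCoh.RSheafHomAdj D')).app M⟩

end Groth.Agent.RHomCx
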