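import Groth.Agent.RHomCx.Local
import Groth.Agent.KInj.Existence
import Groth.Agent.DQCoh.DerCalc
import Groth.Agent.DerPush.Basic
import Groth.Agent.DQPush.Coprod

/-!
Local properties of cohomology sheaves of `RHom(K, L)` for perfect and pseudo-coherent `K`.
-/

set_option autoImplicit false
set_option backward.isDefEq.respectTransparency false
set_option backward.isDefEq.respectTransparency.types false
set_option linter.style.haveILetI false
set_option linter.unusedSectionVars false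

universe u

open CategoryTheory Limits AlgebraicGeometry HomologicalComplex

attribute [local instance] HasDerivedCategory.standard

namespace Groth.Agent.RHomCx

open Groth.Agent.KFlat

/-- a class of modules, local and closed under five term extensions, on a class of schemes -/
structure LocClass (C : Scheme.{u} → Prop) (P : ∀ Y : Scheme.{u}, Y.Modules → Prop) : Prop where
  opens : ∀ {Y : Scheme.{u}} (W : Y.Opens), C Y → C W
  iso : ∀ {Y : Scheme.{u}}, C Y → ∀ {A B : Y.Modules}, (A ≅ B) → P Y A → P Y B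
  zero : ∀ {Y : Scheme.{u}}, C Y → ∀ A : Y.Modules, IsZero A → P Y A
  five : ∀ {Y : Scheme.{u}}, C Y → ∀ {A₁ A₂ M A₄ A₅ : Y.Modules} (f₁ : A₁ ⟶ A₂) (f₂ : A₂ ⟶ M) (f₃ : M ⟶ A₄)
    (f₄ : A₄ ⟶ A₅) (w₁ : f₁ ≫ f₂ = 0) (w₂ : f₂ ≫ f₃ = 0) (w₃ : f₃ ≫ f₄ = 0), (ShortComplex.mk f₁ f₂ w₁).Exact →
      (ShortComplex.mk f₂ f₃ w₂).Exact → (ShortComplex.mk f₃ f₄ w₃).Exact → P Y A₁ → P Y A₂ → P Y A₄ → P Y A₅ → P Y M
  isLocal : ∀ {Y : Scheme.{u}}, C Y → ∀ {M : Y.Modules},
    (∀ x : Y, ∃ W : Y.Opens, x ∈ W ∧ P W (M.restrict W.ι)) → P Y M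
  restrict : ∀ {Y : Scheme.{u}}, C Y → ∀ (W : Y.Opens) {M : Y.Modules}, P Y M → P W (M.restrict W.ι)

lemma locClass_qcoh : LocClass (fun _ : Scheme.{u} => True) fun _ M => Coh.IsQCoh M where
  opens _ _ := trivial
  iso _ _ _ e h := QC.isQCoh_of_iso e h
  zero _ _ h := DQCoh.isQCoh_of_isZero h
  five := by
    intro Y hY A₁ A₂ M A₄ A₅ f₁ f₂ f₃ f₄ w₁ w₂ w₃ e₁ e₂ e₃ h₁ h₂ h₄ h₅
    exact DQCoh.isQCoh_of_exact₅ f₁ f₂ f₃ f₄ w₁ w₂ w₃ e₁ e₂ e₃ h₁ h₂ h₄ h₅
  isLocal := by
    intro Y hY M h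
    exact DQCoh.isQCoh_of_restrict_opens h
  restrict _ W _ h := QC.isQCoh_restrict W.ι h

lemma locClass_coh : LocClass (fun Y : Scheme.{u} => IsLocallyNoetherian Y) fun _ M => Coh.IsCoh M where
  opens W hY := haveI := hY; inferInstance
  iso _ _ _ e h := K0Coh.isCoh_of_iso e h
  zero hY _ h := haveI := hY; K0Coh.isCoh_of_isZero h
  five := by
    intro Y hY A₁ A₂ M A₄ A₅ f₁ f₂ f₃ f₄ w₁ w₂ w₃ e₁ e₂ e₃ h₁ h₂ h₄ h₅
    haveI := hY
    exact isCoh_of_exact₅ f₁ f₂ f₃ f₄ w₁ w₂ w₃ e₁ e₂ e₃ h₁ h₂ h₄ h₅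
  isLocal := by
    intro Y hY M h
    exact K0Coh.isCoh_of_local h
  restrict _ W _ h := ⟨QC.isQCoh_restrict W.ι h.1, QC.isFT_restrict W.ι h.2⟩

variable {C : Scheme.{u} → Prop} {P : ∀ Y : Scheme.{u}, Y.Modules → Prop}
  {X : Scheme.{u}}

lemma LocClass.strictlyPerfect (h : LocClass C P) (hX : C X) {E : CochainComplex X.Modules ℤ}
    (hE : DCoh.IsStrictlyPerfect E) (I : CochainComplex X.Modules ℤ) (hI : ∀ j, P X (I.homology j)) (i : ℤ) :
    P X (((GE E).obj I).homology i) :=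
  prop_strictlyPerfect P hE (fun W {_ _} e => h.iso (h.opens W hX) e) (fun W => h.zero (h.opens W hX))
    (fun W {_ _ _ _ _} => h.five (h.opens W hX)) (fun {_} hl => h.isLocal hX hl) (fun W {_} => h.restrict hX W) I hI i

lemma LocClass.homology_restrictCx (h : LocClass C P) (hX : C X) (V : X.Opens) {I : CochainComplex X.Modules ℤ}
    (hI : ∀ j, P X (I.homology j)) (j : ℤ) : P V (((DCoh.restrictCx V).obj I).homology j) :=
  h.iso (h.opens V hX) (restrictHIso V I j).symm (h.restrict hX V (hI j))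

/-- perfect K-flat complexes -/
theorem prop_GE_perfect (h : LocClass C P) (hX : C X) {E : CochainComplex X.Modules ℤ} (hE : DCoh.IsKFlat E)
    (hEp : DCoh.IsPerfect (DCoh.toD X E)) (I : CochainComplex X.Modules ℤ) [I.IsKInjective]
    (hI : ∀ j, P X (I.homology j)) (i : ℤ) : P X (((GE E).obj I).homology i) := by
  refine h.isLocal hX fun x => ?_
  obtain ⟨V, hx, E', hE', ⟨e⟩⟩ := (DerPerf.isPerfect_iff_rep (Iso.refl (DCoh.toD X E))).1 hEp x
  haveI := isKInjective_restrictCx V I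
  obtain ⟨e'⟩ := nonempty_GE_congr (DerPerf.isKFlat_restrictCx V hE) (DerPerf.isKFlat_of_isStrictlyPerfect hE') e
    ((DCoh.restrictCx V).obj I) i
  exact ⟨V, hx, h.iso (h.opens V hX) (geRestrictHIso V E I i ≪≫ e').symm
    (h.strictlyPerfect (h.opens V hX) hE' _ (h.homology_restrictCx hX V hI) i)⟩

/-- vanishing for K-flat complexes bounded above in the derived category -/
theorem isZero_homology_GE_of_isLE {E : CochainComplex X.Modules ℤ} (hE : DCoh.IsKFlat E) (m : ℤ) [E.IsLE m]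
    (I : CochainComplex X.Modules ℤ) [I.IsKInjective] (a i : ℤ) [I.IsStrictlyGE a] (hi : i + m < a) :
    IsZero (((GE E).obj I).homology i) := by
  obtain ⟨K, q, hK, -, hq, hle⟩ := exists_resolution_le_sch (E.truncLE m) m
  haveI := hq
  haveI := hle
  obtain ⟨e⟩ := nonempty_GE_qis (q ≫ E.ιTruncLE m) hK hE I i
  exact (isZero_homology_GE a m i hi).of_iso e.symm

/-- pseudo-coherent K-flat complexes -/
theorem prop_GE_pseudoCoherent (h : LocClass C P) (hX : C X) {E : CochainComplex X.Modules ℤ} (hE : DCoh.IsKFlat E)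
    (n : ℤ) (hEp : DCoh.IsPseudoCoherentD n (DCoh.toD X E)) (I : CochainComplex X.Modules ℤ) [I.IsKInjective]
    (a : ℤ) [I.IsStrictlyGE a] (hI : ∀ j, P X (I.homology j)) (i : ℤ) (hi : i < a - n) :
    P X (((GE E).obj I).homology i) := by
  refine h.isLocal hX fun x => ?_
  obtain ⟨V, hx, hV⟩ := hEp x
  obtain ⟨E', α, hE', hα, hαn⟩ := hV E ⟨Iso.refl _⟩
  let EV := (DCoh.restrictCx V).obj E
  let IV := (DCoh.restrictCx V).obj I
  have hEV : DCoh.IsKFlat EV := DerPerf.isKFlat_restrictCx V hE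
  have hE'k := DerPerf.isKFlat_of_isStrictlyPerfect hE'
  haveI : IV.IsKInjective := isKInjective_restrictCx V I
  haveI : IV.IsStrictlyGE a := (CochainComplex.isStrictlyGE_iff _ _).2 fun k hk =>
    (Scheme.Modules.restrictFunctor V.ι).map_isZero (I.isZero_of_isStrictlyGE a k hk)
  obtain ⟨M, s, hs, g₀, hg₀⟩ := DerivedCategory.right_fac α
  haveI := hs
  haveI : QuasiIso s := (DerivedCategory.isIso_Q_map_iff_quasiIso _ s).1 hs
  let g : (resF (V : Scheme.{u})).obj M ⟶ EV := (resψ (V : Scheme.{u})).app M ≫ g₀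
  let t : (resF (V : Scheme.{u})).obj M ⟶ E' := (resψ (V : Scheme.{u})).app M ≫ s
  have hg : DQCoh.MIsoD n (DerivedCategory.Q.map g) := by
    have : DerivedCategory.Q.map g = DerivedCategory.Q.map t ≫ α := by
      rw [hg₀, show DerivedCategory.Q.map t = DerivedCategory.Q.map ((resψ (V : Scheme.{u})).app M) ≫
        DerivedCategory.Q.map s from DerivedCategory.Q.map_comp _ _, Category.assoc, IsIso.hom_inv_id_assoc]
      exact DerivedCategory.Q.map_comp _ _
    rw [this]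
    exact DQCoh.mIsoD_comp (DQCoh.mIsoD_of_isIso n _) ⟨hα, hαn⟩
  let Cn := CochainComplex.mappingCone g
  have hCz : ∀ k, n - 1 < k → IsZero (Cn.homology k) := fun k hk =>
    ((DQCoh.mIsoD_iff n _ (DerivedCategory.mappingCone_triangle_distinguished g)).1 hg k (by omega)).of_iso
      (KFlat.hdIso Cn k).symm
  haveI : Cn.IsLE (n - 1) := (CochainComplex.isLE_iff _ _).2 fun k hk => (exactAt_iff_isZero_homology _ _).2 (hCz k hk)
  have hC : DCoh.IsKFlat Cn := rflat_mappingCone_sch g (isKFlat_resF M) hEV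
  have hz : ∀ j, j ≤ i + 1 → IsZero (((GE Cn).obj IV).homology j) := fun j hj =>
    isZero_homology_GE_of_isLE hC (n - 1) IV a j (by omega)
  have hT := shortExact_gSC (coneSplitting g) IV
  haveI := hT.isIso_δ i (i + 1) (by simp) (hz i (by omega)) (hz (i + 1) le_rfl)
  obtain ⟨e₁⟩ := nonempty_GE_shift ((resF (V : Scheme.{u})).obj M) IV i
  obtain ⟨e₂⟩ := nonempty_GE_qis t (isKFlat_resF M) hE'k IV i
  let e : ((GE EV).obj IV).homology i ≅ ((GE E').obj IV).homology i :=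
    asIso (hT.δ i (i + 1) rfl) ≪≫ e₁.symm ≪≫ e₂
  exact ⟨V, hx, h.iso (h.opens V hX) (geRestrictHIso V E I i ≪≫ e).symm
    (h.strictlyPerfect (h.opens V hX) hE' _ (h.homology_restrictCx hX V hI) i)⟩

/-- K-injective representatives -/
theorem exists_kInjective_rep (L : DCoh.D X) :
    ∃ I : CochainComplex X.Modules ℤ, I.IsKInjective ∧ Nonempty (DerivedCategory.Q.obj I ≅ L) := by
  haveI := DerPush.isGrothendieckAbelian_modules X
  obtain ⟨I, f, hI, hf, -, -⟩ := KInj.exists_kInjective ((DerivedCategory.Q (C := X.Modules)).objPreimage L)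
  haveI := hf
  exact ⟨I, hI, ⟨(asIso (DerivedCategory.Q.map f)).symm ≪≫ DerivedCategory.Q.objObjPreimageIso L⟩⟩

/-- bounded below K-injective representatives -/
theorem exists_kInjective_rep_ge (L : DCoh.D X) (a : ℤ) [L.IsGE a] :
    ∃ I : CochainComplex X.Modules ℤ, I.IsKInjective ∧ I.IsStrictlyGE a ∧
      Nonempty (DerivedCategory.Q.obj I ≅ L) := by
  haveI := DerPush.isGrothendieckAbelian_modules X
  haveI := DQPush.hasInj X
  let C₀ := (DerivedCategory.Q (C := X.Modules)).objPreimage L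
  let eC : DerivedCategory.Q.obj C₀ ≅ L := DerivedCategory.Q.objObjPreimageIso L
  haveI : C₀.IsGE a := (DerivedCategory.isGE_Q_obj_iff C₀ a).1 (DerivedCategory.TStructure.t.isGE_of_iso eC.symm a)
  obtain ⟨I, s, hs, hI, hGE⟩ := CochainComplex.Plus.modelCategoryQuillen.exists_quasiIso_injective (C₀.truncGE a) a
  haveI := hs
  haveI := hGE
  haveI := hI
  exact ⟨I, CochainComplex.isKInjective_of_injective I a, hGE,
    ⟨(asIso (DerivedCategory.Q.map (C₀.πTruncGE a ≫ s))).symm ≪≫ eC⟩⟩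

/-- transfer to `RHom` -/
theorem nonempty_HD_RSheafHom' (K : CochainComplex X.Modules ℤ) [DCoh.HasLTensorCx K] [DCoh.HasRSheafHom K]
    {I : CochainComplex X.Modules ℤ} [I.IsKInjective] {L : DCoh.D X} (e : DerivedCategory.Q.obj I ≅ L) (i : ℤ) :
    Nonempty (DCoh.HD ((DCoh.RSheafHom K).obj L) i ≅ ((GE ((resF X).obj K)).obj I).homology i) := by
  obtain ⟨e'⟩ := nonempty_HD_RSheafHom K I i
  exact ⟨(DerivedCategory.homologyFunctor _ i).mapIso ((DCoh.RSheafHom K).mapIso e.symm) ≪≫ e'⟩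

/-- **local properties of `RHom` from a perfect complex** -/
theorem prop_RSheafHom_perfect (h : LocClass C P) (hX : C X) (K : CochainComplex X.Modules ℤ)
    (hK : DCoh.IsPerfect (DCoh.toD X K)) [DCoh.HasLTensorCx K] [DCoh.HasRSheafHom K] (L : DCoh.D X)
    (hL : ∀ j, P X (DCoh.HD L j)) (i : ℤ) : P X (DCoh.HD ((DCoh.RSheafHom K).obj L) i) := by
  obtain ⟨I, hI, ⟨e⟩⟩ := exists_kInjective_rep L
  haveI := hI
  obtain ⟨e'⟩ := nonempty_HD_RSheafHom' K e i
  refine h.iso hX e'.symm (prop_GE_perfect h hX (isKFlat_resF K) ?_ I (fun j => ?_) i)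
  · exact (DerPerf.isPerfect_iff_rep (Iso.refl _)).2 ((DerPerf.isPerfect_iff_rep
      (asIso (DerivedCategory.Q.map ((resψ X).app K)))).1 hK)
  · exact h.iso hX ((DerivedCategory.homologyFunctor _ j).mapIso e.symm ≪≫ KFlat.hdIso I j) (hL j)

/-- **local properties of `RHom` from a pseudo-coherent complex** -/
theorem prop_RSheafHom_pseudoCoherent (h : LocClass C P) (hX : C X) (K : CochainComplex X.Modules ℤ) (n : ℤ)
    (hK : DCoh.IsPseudoCoherentD n (DCoh.toD X K)) [DCoh.HasLTensorCx K] [DCoh.HasRSheafHom K] (L : DCoh.D X)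
    (hL : ∀ j, P X (DCoh.HD L j)) (a : ℤ) [L.IsGE a] (i : ℤ) (hi : i < a - n) :
    P X (DCoh.HD ((DCoh.RSheafHom K).obj L) i) := by
  obtain ⟨I, hI, hge, ⟨e⟩⟩ := exists_kInjective_rep_ge L a
  haveI := hI
  haveI := hge
  obtain ⟨e'⟩ := nonempty_HD_RSheafHom' K e i
  refine h.iso hX e'.symm (prop_GE_pseudoCoherent h hX (isKFlat_resF K) n ?_ I a (fun j => ?_) i hi)
  · exact fun x => let ⟨V, hx, hV⟩ := hK x
      ⟨V, hx, fun F ⟨eF⟩ => hV F ⟨eF ≪≫ asIso (DerivedCategory.Q.map ((resψ X).app K))⟩⟩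
  · exact h.iso hX ((DerivedCategory.homologyFunctor _ j).mapIso e.symm ≪≫ KFlat.hdIso I j) (hL j)

/-- **`RHom` from a bounded above complex is bounded below** -/
theorem exists_isGE_RSheafHom (K : CochainComplex X.Modules ℤ) (b : ℤ) [(DCoh.toD X K).IsLE b]
    [DCoh.HasLTensorCx K] [DCoh.HasRSheafHom K] (L : DCoh.D X) (a : ℤ) [L.IsGE a] :
    ((DCoh.RSheafHom K).obj L).IsGE (a - b) := by
  obtain ⟨I, hI, hge, ⟨e⟩⟩ := exists_kInjective_rep_ge L a
  haveI := hI
  haveI := hge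
  haveI : ((resF X).obj K).IsLE b := by
    rw [← DerivedCategory.isLE_Q_obj_iff]
    exact @Triangulated.TStructure.isLE_of_iso _ _ _ _ _ _ _ DerivedCategory.TStructure.t (DerivedCategory.Q.obj K) _
      (asIso (DerivedCategory.Q.map ((resψ X).app K))).symm b ‹(DCoh.toD X K).IsLE b›
  refine (DerivedCategory.isGE_iff _ _).2 fun i hi => ?_
  obtain ⟨e'⟩ := nonempty_HD_RSheafHom' K e i
  exact (isZero_homology_GE_of_isLE (isKFlat_resF K) b I a i (by omega)).of_iso e'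

end Groth.Agent.RHomCx
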