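import Groth.Agent.RHomCx.Props
import Groth.Agent.ProjForm.Range
import Groth.Agent.Recoll.Derived
import Groth.Agent.KFlat.LTensorComp
import Groth.Agent.DQPush.Restrict

/-!
`RHom` commutes with restriction to open subschemes.
-/

set_option autoImplicit false
set_option backward.isDefEq.respectTransparency false
set_option backward.isDefEq.respectTransparency.types false
set_option linter.style.haveILetI false
set_option linter.unusedSectionVars false

universe u

open CategoryTheory Limits AlgebraicGeometry HomologicalComplex Opposite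

attribute [local instance] HasDerivedCategory.standard

namespace Groth.Agent.RHomCx

open Groth.Agent.KFlat

variable {X : Scheme.{u}} (U : X.Opens)

/-- stalks of extensions by zero vanish outside the open -/
lemma isZero_stalk_extZero (M : (U : Scheme.{u}).Modules) (y : X) (hy : y ∉ U) :
    IsZero ((DerSch.stalkFunctor X y).obj ((CxOX.extZero U.ι).obj M)) := by
  let S := (DerSch.stalkFunctor X y).obj ((CxOX.extZero U.ι).obj M)
  have hz : IsZero ((Scheme.Modules.restrictFunctor U.ι).obj ((sky y).obj S)) := by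
    rw [IsZero.iff_id_eq_zero]
    refine Scheme.Modules.hom_ext _ _ fun W => ?_
    ext g
    funext h
    exact absurd (show y ∈ U from by
      obtain ⟨z, -, hz⟩ := h.down
      exact hz ▸ z.2) hy
  rw [IsZero.iff_id_eq_zero]
  exact ((skyAdjunction y).homEquiv _ _).injective
    (((CxOX.extZeroAdj U.ι).homEquiv _ _).injective (hz.eq_of_tgt _ _))

lemma isZero_stCx_eC (A : CochainComplex (U : Scheme.{u}).Modules ℤ) (y : X) (hy : y ∉ U) :
    IsZero ((stCx y).obj ((ProjForm.eC U.ι).obj A)) := by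
  rw [IsZero.iff_id_eq_zero]
  exact HomologicalComplex.hom_ext _ _ fun n => (isZero_stalk_extZero U (A.X n) y hy).eq_of_src _ _

/-- extensions by zero of K-flat complexes are K-flat -/
theorem isKFlat_eC {A : CochainComplex (U : Scheme.{u}).Modules ℤ} (hA : DCoh.IsKFlat A) :
    DCoh.IsKFlat ((ProjForm.eC U.ι).obj A) := by
  rw [isKFlat_iff_stalks]
  intro y
  by_cases hy : y ∈ U
  · exact ProjForm.kFlatOn_eC U.ι hA y (by rw [Scheme.Opens.opensRange_ι]; exact hy)
  · exact (DRingKP.rflat_iff _).1 (rflat_of_isZero (isZero_stCx_eC U A y hy))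

/-- `j_! ⊣ j^*` on complexes -/
noncomputable def adjQ : ProjForm.eC U.ι ⊣ (Scheme.Modules.pullback U.ι).mapHomologicalComplex (ComplexShape.up ℤ) :=
  KInj.mapHomologicalComplexAdj
    ((CxOX.extZeroAdj U.ι).ofNatIsoRight (Scheme.Modules.restrictFunctorIsoPullback U.ι)) (ComplexShape.up ℤ)

lemma isIso_adjQ_unit (A : CochainComplex (U : Scheme.{u}).Modules ℤ) : IsIso ((adjQ U).unit.app A) := by
  haveI := ProjForm.isIso_extZero_unit U.ι
  haveI : ∀ n, IsIso (((adjQ U).unit.app A).f n) := fun n => by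
    change IsIso (((CxOX.extZeroAdj U.ι).ofNatIsoRight (Scheme.Modules.restrictFunctorIsoPullback U.ι)).unit.app (A.X n))
    have h : ((CxOX.extZeroAdj U.ι).ofNatIsoRight (Scheme.Modules.restrictFunctorIsoPullback U.ι)).unit.app (A.X n) =
        (CxOX.extZeroAdj U.ι).unit.app (A.X n) ≫ (Scheme.Modules.restrictFunctorIsoPullback U.ι).hom.app _ := by
      rw [← Adjunction.homEquiv_id, Adjunction.homEquiv_unit]
      simp [Adjunction.ofNatIsoRight]
    rw [h]
    infer_instance
  exact HomologicalComplex.Hom.isIso_of_components _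

variable (K : CochainComplex X.Modules ℤ)

/-- `K|_U` -/
noncomputable abbrev qK : CochainComplex (U : Scheme.{u}).Modules ℤ :=
  ((Scheme.Modules.pullback U.ι).mapHomologicalComplex (ComplexShape.up ℤ)).obj K

/-- `A ⊗ K|_U ⟶ (j_!A ⊗ K)|_U` -/
noncomputable def thetaAdj (A : CochainComplex (U : Scheme.{u}).Modules ℤ) :
    (FE (qK U K)).obj A ⟶ ((Scheme.Modules.pullback U.ι).mapHomologicalComplex (ComplexShape.up ℤ)).obj
      ((FE K).obj ((ProjForm.eC U.ι).obj A)) :=
  (FE (qK U K)).map ((adjQ U).unit.app A) ≫ (pullTotIso U.ι ((ProjForm.eC U.ι).obj A) K).hom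

/-- `j_!(A ⊗ K|_U) ⟶ j_!A ⊗ K` -/
noncomputable def thetaU (A : CochainComplex (U : Scheme.{u}).Modules ℤ) :
    (ProjForm.eC U.ι).obj ((FE (qK U K)).obj A) ⟶ (FE K).obj ((ProjForm.eC U.ι).obj A) :=
  ((adjQ U).homEquiv _ _).symm (thetaAdj U K A)

lemma pullTotIso_natural {Y Z : Scheme.{u}} (f : Y ⟶ Z) {L L' : CochainComplex Z.Modules ℤ} (a : L ⟶ L')
    (K : CochainComplex Z.Modules ℤ) :
    (FE (((Scheme.Modules.pullback f).mapHomologicalComplex (ComplexShape.up ℤ)).obj K)).map
        (((Scheme.Modules.pullback f).mapHomologicalComplex (ComplexShape.up ℤ)).map a) ≫ (pullTotIso f L' K).hom =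
      (pullTotIso f L K).hom ≫
        ((Scheme.Modules.pullback f).mapHomologicalComplex (ComplexShape.up ℤ)).map ((FE K).map a) := by
  haveI : PreservesColimitsOfSize.{u, u} (Scheme.Modules.pullback f) :=
    (Scheme.Modules.pullbackPushforwardAdjunction f).leftAdjoint_preservesColimits
  haveI : PreservesColimitsOfSize.{0, 0} (Scheme.Modules.pullback f) :=
    preservesSmallestColimits_of_preservesColimits _
  refine HomologicalComplex.hom_ext _ _ fun n => mapBifunctor.hom_ext fun p q h => ?_
  let F := Scheme.Modules.pullback f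
  let FC := F.mapHomologicalComplex (ComplexShape.up ℤ)
  have e₁ : ιMapBifunctor (FC.obj L) (FC.obj K) (schB Y) (ComplexShape.up ℤ) p q n h ≫
      ((FE (FC.obj K)).map (FC.map a)).f n =
        ((schB Y).map (F.map (a.f p))).app (F.obj (K.X q)) ≫
          ιMapBifunctor (FC.obj L') (FC.obj K) (schB Y) (ComplexShape.up ℤ) p q n h :=
    (ι_mapBifunctorMap (FC.map a) (𝟙 (FC.obj K)) (schB Y) _ p q n h).trans (by simp; rfl)
  have e₂ : ∀ M : CochainComplex Z.Modules ℤ,
      ιMapBifunctor (FC.obj M) (FC.obj K) (schB Y) (ComplexShape.up ℤ) p q n h ≫ (pullTotIso f M K).hom.f n =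
        (pullTensorIso f (M.X p) (K.X q)).hom ≫ F.map (ιMapBifunctor M K (schB Z) (ComplexShape.up ℤ) p q n h) :=
    fun M => ι_mapTensX F F (𝟭 _) (𝟭 _) F (schB Z) (schB Y) (fun M N => pullTensorIso f M N) M K n p q h
  have e₃ : ιMapBifunctor L K (schB Z) (ComplexShape.up ℤ) p q n h ≫ ((FE K).map a).f n =
      ((schB Z).map (a.f p)).app (K.X q) ≫ ιMapBifunctor L' K (schB Z) (ComplexShape.up ℤ) p q n h :=
    (ι_mapBifunctorMap a (𝟙 K) (schB Z) _ p q n h).trans (by simp)
  calc ιMapBifunctor (FC.obj L) (FC.obj K) (schB Y) (ComplexShape.up ℤ) p q n h ≫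
        ((FE (FC.obj K)).map (FC.map a)).f n ≫ (pullTotIso f L' K).hom.f n
      = ((schB Y).map (F.map (a.f p))).app (F.obj (K.X q)) ≫
          ιMapBifunctor (FC.obj L') (FC.obj K) (schB Y) (ComplexShape.up ℤ) p q n h ≫ (pullTotIso f L' K).hom.f n := by
        exact (Category.assoc _ _ _).symm.trans ((congrArg (· ≫ _) e₁).trans (Category.assoc _ _ _))
    _ = ((schB Y).map (F.map (a.f p))).app (F.obj (K.X q)) ≫ (pullTensorIso f (L'.X p) (K.X q)).hom ≫
          F.map (ιMapBifunctor L' K (schB Z) (ComplexShape.up ℤ) p q n h) := congrArg _ (e₂ L')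
    _ = (pullTensorIso f (L.X p) (K.X q)).hom ≫ F.map (((schB Z).map (a.f p)).app (K.X q)) ≫
          F.map (ιMapBifunctor L' K (schB Z) (ComplexShape.up ℤ) p q n h) :=
        (Category.assoc _ _ _).symm.trans ((congrArg (· ≫ _) (pullTensorIso_natural_left f (a.f p) (K.X q))).trans
          (Category.assoc _ _ _))
    _ = (pullTensorIso f (L.X p) (K.X q)).hom ≫ F.map (ιMapBifunctor L K (schB Z) (ComplexShape.up ℤ) p q n h) ≫
          F.map (((FE K).map a).f n) := by rw [← F.map_comp, ← e₃, F.map_comp]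
    _ = ιMapBifunctor (FC.obj L) (FC.obj K) (schB Y) (ComplexShape.up ℤ) p q n h ≫
          (pullTotIso f L K).hom.f n ≫ F.map (((FE K).map a).f n) := by
        exact (Category.assoc _ _ _).symm.trans ((congrArg (· ≫ _) (e₂ L).symm).trans (Category.assoc _ _ _))

lemma thetaU_natural {A A' : CochainComplex (U : Scheme.{u}).Modules ℤ} (a : A ⟶ A') :
    (ProjForm.eC U.ι).map ((FE (qK U K)).map a) ≫ thetaU U K A' =
      thetaU U K A ≫ (FE K).map ((ProjForm.eC U.ι).map a) := by
  refine ((adjQ U).homEquiv _ _).injective ?_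
  rw [(adjQ U).homEquiv_naturality_left, (adjQ U).homEquiv_naturality_right, thetaU, thetaU, Equiv.apply_symm_apply,
    Equiv.apply_symm_apply, thetaAdj, thetaAdj, Category.assoc, ← Category.assoc ((FE (qK U K)).map a),
    ← Functor.map_comp]
  have hn : a ≫ (adjQ U).unit.app A' = (adjQ U).unit.app A ≫
      ((Scheme.Modules.pullback U.ι).mapHomologicalComplex (ComplexShape.up ℤ)).map ((ProjForm.eC U.ι).map a) :=
    (adjQ U).unit.naturality a
  rw [hn, Functor.map_comp, Category.assoc]
  exact congrArg (_ ≫ ·) (pullTotIso_natural U.ι ((ProjForm.eC U.ι).map a) K)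

lemma isIso_thetaU (A : CochainComplex (U : Scheme.{u}).Modules ℤ) : IsIso (thetaU U K A) := by
  let P := (Scheme.Modules.pullback U.ι).mapHomologicalComplex (ComplexShape.up ℤ)
  haveI := isIso_adjQ_unit U A
  haveI := isIso_adjQ_unit U ((FE (qK U K)).obj A)
  haveI : IsIso (thetaAdj U K A) := IsIso.comp_isIso' inferInstance inferInstance
  have h : (adjQ U).unit.app _ ≫ P.map (thetaU U K A) = thetaAdj U K A :=
    ((adjQ U).homEquiv_unit _ _ _).symm.trans (Equiv.apply_symm_apply _ _)
  haveI : IsIso ((adjQ U).unit.app _ ≫ P.map (thetaU U K A)) := by rw [h]; infer_instance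
  haveI hP : IsIso (P.map (thetaU U K A)) := IsIso.of_isIso_comp_left ((adjQ U).unit.app ((FE (qK U K)).obj A)) _
  haveI : ∀ n, IsIso ((thetaU U K A).f n) := fun n => by
    refine isIso_of_stalks _ fun y => ?_
    by_cases hy : y ∈ U
    · have h1 : IsIso ((Scheme.Modules.pullback U.ι).map ((thetaU U K A).f n)) :=
        inferInstanceAs (IsIso ((eval _ (ComplexShape.up ℤ) n).map (P.map (thetaU U K A))))
      have h2 := (NatIso.isIso_map_iff (Scheme.Modules.restrictFunctorIsoPullback U.ι) _).2 h1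
      exact (ProjForm.isIso_restrictJ_iff U.ι _).1 h2 y (by rw [Scheme.Opens.opensRange_ι]; exact hy)
    · have hz : IsZero ((stCx y).obj ((FE K).obj ((ProjForm.eC U.ι).obj A))) := by
        refine IsZero.of_iso ?_ (stTotIso y ((ProjForm.eC U.ι).obj A) K).symm
        rw [IsZero.iff_id_eq_zero]
        refine HomologicalComplex.hom_ext _ _ fun m => mapBifunctor.hom_ext fun p q hpq => ?_
        exact ((((MonoidalCategory.curriedTensor _).flip.obj _).map_isZero
          ((eval _ (ComplexShape.up ℤ) p).map_isZero (isZero_stCx_eC U A y hy)))).eq_of_src _ _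
      exact (isZero_stalk_extZero U _ y hy).isIso (f := _) ((eval _ (ComplexShape.up ℤ) n).map_isZero hz)
  exact HomologicalComplex.Hom.isIso_of_components _

/-- `j_!(A ⊗ K|_U) = j_!A ⊗ K` -/
noncomputable def thetaIso : FE (qK U K) ⋙ ProjForm.eC U.ι ≅ ProjForm.eC U.ι ⋙ FE K :=
  haveI := isIso_thetaU U K
  NatIso.ofComponents (fun A => asIso (thetaU U K A)) fun a => thetaU_natural U K a

end Groth.Agent.RHomCx
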