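import Groth.Agent.RHomCx.Pairing
import Groth.Agent.ProjForm.Perfect
import Groth.Agent.DQCoh.RelPerf
import Groth.Agent.RelPCS.Single

/-!
The dual of a perfect complex and biduality, locally.
-/

set_option autoImplicit false
set_option backward.isDefEq.respectTransparency false
set_option backward.isDefEq.respectTransparency.types false
set_option linter.style.haveILetI false
set_option linter.unusedSectionVars false

universe u

open CategoryTheory Limits AlgebraicGeometry HomologicalComplex MonoidalCategory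

attribute [local instance] HasDerivedCategory.standard

namespace Groth.Agent.RHomCx

open Groth.Agent.KFlat Groth.Agent.ProjForm

variable {X : Scheme.{u}}

/-- `O[0]` -/
noncomputable abbrev O₀ (X : Scheme.{u}) : CochainComplex X.Modules ℤ :=
  (single X.Modules (ComplexShape.up ℤ) 0).obj (Coh.structureModule X)

lemma quasiIso_map_of_natIso {F : CochainComplex X.Modules ℤ ⥤ CochainComplex X.Modules ℤ} (g : F ≅ 𝟭 _)
    {A B : CochainComplex X.Modules ℤ} (f : A ⟶ B) [QuasiIso f] : QuasiIso (F.map f) :=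
  (quasiIso_iff_of_arrow_mk_iso (F.map f) f (Arrow.isoMk (g.app A) (g.app B) (g.hom.naturality f).symm)).2 ‹_›

/-- contractible complexes have contractible internal Homs -/
lemma nonempty_contract_GE {C : CochainComplex X.Modules ℤ} (h : Homotopy (𝟙 C) 0) (T : CochainComplex X.Modules ℤ) :
    Nonempty (Homotopy (𝟙 ((GE C).obj T)) 0) := by
  rw [homotopy_mate_iff]
  exact ⟨(Homotopy.ofEq (show ((adjE C).homEquiv _ T).symm (𝟙 ((GE C).obj T)) =
      (DCoh.tensorCx.obj ((GE C).obj T)).map (𝟙 C) ≫ ((adjE C).homEquiv _ T).symm (𝟙 ((GE C).obj T)) by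
        rw [CategoryTheory.Functor.map_id, Category.id_comp])).trans
    (((homotopyObj (schB X) ((GE C).obj T) h).compRight _).trans
      (Homotopy.ofEq (by rw [Functor.map_zero, zero_comp])))⟩

/-- contractible complexes stay contractible after tensoring -/
noncomputable def contractTens {C : CochainComplex X.Modules ℤ} (h : Homotopy (𝟙 C) 0) (P : CochainComplex X.Modules ℤ) :
    Homotopy (𝟙 (tns P C)) 0 :=
  (Homotopy.ofEq ((DCoh.tensorCx.obj P).map_id C).symm).trans
    ((homotopyObj (schB X) P h).trans (Homotopy.ofEq (Functor.map_zero _ _ _)))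

lemma acyclic_of_contract {C : CochainComplex X.Modules ℤ} (h : Homotopy (𝟙 C) 0) : C.Acyclic :=
  acyclic_iff_isZero.2 fun i => by
    rw [IsZero.iff_id_eq_zero, ← homologyMap_id, h.homologyMap_eq i, homologyMap_zero]

lemma kFlatOn_of_contract (V : X.Opens) {C : CochainComplex X.Modules ℤ} (h : Homotopy (𝟙 C) 0) : KFlatOn V C :=
  fun y _ => (DRingKP.rflat_iff _).1 fun L _ => acyclic_iff_isZero.2 fun i => by
    let h' := homotopyObj (DRingKP.tB (X.presheaf.stalk y)) L
      ((Homotopy.ofEq ((stCx y).map_id C).symm).trans (((DerSch.stalkFunctor X y).mapHomotopy h).trans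
        (Homotopy.ofEq (Functor.map_zero _ _ _))))
    rw [IsZero.iff_id_eq_zero, ← homologyMap_id, ← CategoryTheory.Functor.map_id, h'.homologyMap_eq i,
      Functor.map_zero, homologyMap_zero]

lemma qisOn_of_acyclic (V : X.Opens) {K L : CochainComplex X.Modules ℤ} (u : K ⟶ L) (hK : K.Acyclic) (hL : L.Acyclic) :
    QisOn V u :=
  qisOn_of_acycOn u (fun y _ => (acyclic_iff_stalks K).1 hK y) fun y _ => (acyclic_iff_stalks L).1 hL y

lemma qisOn_id (V : X.Opens) (K : CochainComplex X.Modules ℤ) : QisOn V (𝟙 K) := qisOn_of_quasiIso V _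

section Local

variable (V : X.Opens) (P : CochainComplex X.Modules ℤ) {I J : CochainComplex X.Modules ℤ}
  (j₀ : tns P (O₀ X) ⟶ I) (u : O₀ X ⟶ J)

/-- the good complexes for biduality over `V` -/
structure Good (C : CochainComplex X.Modules ℤ) : Prop where
  flat : KFlatOn V C
  gflat : KFlatOn V ((GE C).obj (O₀ X))
  psi : QisOn V (RHomCx.psi P j₀ (ev C (O₀ X)))
  psi' : QisOn V (RHomCx.psi P j₀ (swp (ev C (O₀ X))))
  res : QisOn V ((GE C).map u)
  perf : DCoh.IsPerfect (DCoh.toD (V : Scheme.{u}) ((DCoh.restrictCx V).obj ((GE C).obj (O₀ X))))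

variable {V P j₀ u} [I.IsKInjective] [J.IsKInjective] (hP : DCoh.IsKFlat P)

section Middle

variable {S : ShortComplex (CochainComplex X.Modules ℤ)}
  (σ : ∀ n, (S.map (eval X.Modules (ComplexShape.up ℤ) n)).Splitting)

include σ in
lemma kFlatOn_twoThree : TwoThree (KFlatOn V S.X₁) (KFlatOn V S.X₂) (KFlatOn V S.X₃) := by
  let τ := fun (y : X) n => (σ n).map (DerSch.stalkFunctor X y)
  exact ⟨fun a b y hy => (DRingKP.rflat_iff _).1 (rflat₁ (S := S.map (stCx y)) (τ y) ((DRingKP.rflat_iff _).2 (a y hy))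
      ((DRingKP.rflat_iff _).2 (b y hy))),
    fun a b y hy => (DRingKP.rflat_iff _).1 (rflat₂ (S := S.map (stCx y)) (τ y) ((DRingKP.rflat_iff _).2 (a y hy))
      ((DRingKP.rflat_iff _).2 (b y hy))),
    fun a b y hy => (DRingKP.rflat_iff _).1 (rflat₃ (S := S.map (stCx y)) (τ y) ((DRingKP.rflat_iff _).2 (a y hy))
      ((DRingKP.rflat_iff _).2 (b y hy)))⟩

include σ in
lemma gflat_twoThree : TwoThree (KFlatOn V ((GE S.X₃).obj (O₀ X))) (KFlatOn V ((GE S.X₂).obj (O₀ X)))
    (KFlatOn V ((GE S.X₁).obj (O₀ X))) :=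
  kFlatOn_twoThree (S := gSC S (O₀ X)) fun n => (nonempty_splitting_gSC σ (O₀ X) n).some

include σ in
lemma psi_twoThree : TwoThree (QisOn V (RHomCx.psi P j₀ (ev S.X₃ (O₀ X)))) (QisOn V (RHomCx.psi P j₀ (ev S.X₂ (O₀ X))))
    (QisOn V (RHomCx.psi P j₀ (ev S.X₁ (O₀ X)))) := by
  let φ : (gSC S (O₀ X)).map (DCoh.tensorCx.obj P) ⟶ gSC S I :=
    { τ₁ := RHomCx.psi P j₀ (ev S.X₃ (O₀ X))
      τ₂ := RHomCx.psi P j₀ (ev S.X₂ (O₀ X))
      τ₃ := RHomCx.psi P j₀ (ev S.X₁ (O₀ X))
      comm₁₂ := psi_natural P j₀ _ _ _ _ (ev_compat S.g (O₀ X))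
      comm₂₃ := psi_natural P j₀ _ _ _ _ (ev_compat S.f (O₀ X)) }
  exact qisOn_twoThree φ (shortExact_of_splitting
    (splittingObj (schB X) P (gSC S (O₀ X)) fun n => (nonempty_splitting_gSC σ (O₀ X) n).some)) (shortExact_gSC σ I)

include σ in
lemma psi'_twoThree : TwoThree (QisOn V (RHomCx.psi P j₀ (swp (ev S.X₁ (O₀ X)))))
    (QisOn V (RHomCx.psi P j₀ (swp (ev S.X₂ (O₀ X))))) (QisOn V (RHomCx.psi P j₀ (swp (ev S.X₃ (O₀ X))))) := by
  let φ : S.map (DCoh.tensorCx.obj P) ⟶ gSC (gSC S (O₀ X)) I :=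
    { τ₁ := RHomCx.psi P j₀ (swp (ev S.X₁ (O₀ X)))
      τ₂ := RHomCx.psi P j₀ (swp (ev S.X₂ (O₀ X)))
      τ₃ := RHomCx.psi P j₀ (swp (ev S.X₃ (O₀ X)))
      comm₁₂ := psi_natural P j₀ _ _ _ _ (swp_compat _ _ _ _ (ev_compat S.f (O₀ X)))
      comm₂₃ := psi_natural P j₀ _ _ _ _ (swp_compat _ _ _ _ (ev_compat S.g (O₀ X))) }
  exact qisOn_twoThree φ (shortExact_of_splitting (splittingObj (schB X) P S σ))
    (shortExact_gSC (fun n => (nonempty_splitting_gSC σ (O₀ X) n).some) I)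

include σ in
lemma res_twoThree : TwoThree (QisOn V ((GE S.X₃).map u)) (QisOn V ((GE S.X₂).map u))
    (QisOn V ((GE S.X₁).map u)) := by
  let φ : gSC S (O₀ X) ⟶ gSC S J :=
    { τ₁ := (GE S.X₃).map u
      τ₂ := (GE S.X₂).map u
      τ₃ := (GE S.X₁).map u
      comm₁₂ := (gmap S.g).naturality u
      comm₂₃ := (gmap S.f).naturality u }
  exact qisOn_twoThree φ (shortExact_gSC σ (O₀ X)) (shortExact_gSC σ J)

include σ in
lemma perf_twoThree : TwoThree
    (DCoh.IsPerfect (DCoh.toD (V : Scheme.{u}) ((DCoh.restrictCx V).obj ((GE S.X₃).obj (O₀ X)))))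
    (DCoh.IsPerfect (DCoh.toD (V : Scheme.{u}) ((DCoh.restrictCx V).obj ((GE S.X₂).obj (O₀ X)))))
    (DCoh.IsPerfect (DCoh.toD (V : Scheme.{u}) ((DCoh.restrictCx V).obj ((GE S.X₁).obj (O₀ X))))) := by
  have h : ((gSC S (O₀ X)).map (DCoh.restrictCx V)).ShortExact := shortExact_of_splitting fun n =>
    (nonempty_splitting_gSC σ (O₀ X) n).some.map (Scheme.Modules.restrictFunctor V.ι)
  have hT := DerivedCategory.triangleOfSES_distinguished h
  exact ⟨fun a b => DQCoh.perfect_obj₁ _ hT a b, fun a b => DQCoh.perfect_obj₂ _ hT a b,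
    fun a b => DQCoh.perfect_obj₃ _ hT a b⟩

include σ in
theorem good_one (h₂ : Good V P j₀ u S.X₂) (h₃ : Good V P j₀ u S.X₃) : Good V P j₀ u S.X₁ :=
  ⟨(kFlatOn_twoThree σ).one h₂.flat h₃.flat, (gflat_twoThree σ).three h₃.gflat h₂.gflat,
    (psi_twoThree σ).three h₃.psi h₂.psi, (psi'_twoThree σ).one h₂.psi' h₃.psi',
    (res_twoThree σ).three h₃.res h₂.res, (perf_twoThree σ).three h₃.perf h₂.perf⟩

include σ in
theorem good_two (h₁ : Good V P j₀ u S.X₁) (h₃ : Good V P j₀ u S.X₃) : Good V P j₀ u S.X₂ :=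
  ⟨(kFlatOn_twoThree σ).two h₁.flat h₃.flat, (gflat_twoThree σ).two h₃.gflat h₁.gflat,
    (psi_twoThree σ).two h₃.psi h₁.psi, (psi'_twoThree σ).two h₁.psi' h₃.psi',
    (res_twoThree σ).two h₃.res h₁.res, (perf_twoThree σ).two h₃.perf h₁.perf⟩

include σ in
theorem good_three (h₁ : Good V P j₀ u S.X₁) (h₂ : Good V P j₀ u S.X₂) : Good V P j₀ u S.X₃ :=
  ⟨(kFlatOn_twoThree σ).three h₁.flat h₂.flat, (gflat_twoThree σ).one h₂.gflat h₁.gflat,
    (psi_twoThree σ).one h₂.psi h₁.psi, (psi'_twoThree σ).three h₁.psi' h₂.psi',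
    (res_twoThree σ).one h₂.res h₁.res, (perf_twoThree σ).one h₂.perf h₁.perf⟩

end Middle

include hP in
theorem good_of_contract {C : CochainComplex X.Modules ℤ} (h : Homotopy (𝟙 C) 0) : Good V P j₀ u C := by
  obtain ⟨h'⟩ := nonempty_contract_GE h (O₀ X)
  have hg : ((GE C).obj (O₀ X)).Acyclic := acyclic_of_contract h'
  refine ⟨kFlatOn_of_contract V h, kFlatOn_of_contract V h',
    qisOn_of_acyclic V _ (acyclic_of_contract (contractTens h' P)) (acyclic_GE_of_contractible h I),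
    qisOn_of_acyclic V _ (acyclic_of_contract (contractTens h P)) (acyclic_GE_of_contractible h' I),
    qisOn_of_acyclic V _ hg (acyclic_GE_of_contractible h J), ?_⟩
  have hz : ((DCoh.restrictCx V).obj ((GE C).obj (O₀ X))).Acyclic := fun i => by
    rw [exactAt_iff]
    exact (hg i).map (Scheme.Modules.restrictFunctor V.ι)
  exact DQCoh.perfect_of_iso ((isZero_zero _).iso (isZero_Q_of_acyclic hz)) DQCoh.perfect_zero

/-- transfer along isomorphisms over `V` -/
theorem good_iff_of_isIso (hP' : DCoh.IsKFlat P) {C C' : CochainComplex X.Modules ℤ} (a : C ⟶ C')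
    (ha : ∀ y ∈ V, IsIso ((stCx y).map a)) : Good V P j₀ u C ↔ Good V P j₀ u C' := by
  haveI hg := isIso_restrict_gmap V a ha (O₀ X)
  have hgs : ∀ y ∈ V, IsIso ((stCx y).map ((gmap a).app (O₀ X))) := fun y hy => by
    haveI : ∀ n, IsIso (((stCx y).map ((gmap a).app (O₀ X))).f n) := fun n =>
      (isIso_restrict_iff V _).1 (inferInstanceAs (IsIso ((eval _ (ComplexShape.up ℤ) n).map
        ((DCoh.restrictCx V).map ((gmap a).app (O₀ X)))))) y hy
    exact HomologicalComplex.Hom.isIso_of_components _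
  have hqa : QisOn V a := fun y hy => by haveI := ha y hy; infer_instance
  have hqg : QisOn V ((gmap a).app (O₀ X)) := fun y hy => by haveI := hgs y hy; infer_instance
  have hf : KFlatOn V C ↔ KFlatOn V C' := by
    constructor <;> intro h y hy <;> haveI := ha y hy
    · exact (DRingKP.rflat_iff _).1 (rflat_of_iso (asIso ((stCx y).map a)) ((DRingKP.rflat_iff _).2 (h y hy)))
    · exact (DRingKP.rflat_iff _).1 (rflat_of_iso (asIso ((stCx y).map a)).symm ((DRingKP.rflat_iff _).2 (h y hy)))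
  have hgf : KFlatOn V ((GE C').obj (O₀ X)) ↔ KFlatOn V ((GE C).obj (O₀ X)) := by
    constructor <;> intro h y hy <;> haveI := hgs y hy
    · exact (DRingKP.rflat_iff _).1 (rflat_of_iso (asIso ((stCx y).map ((gmap a).app (O₀ X)))) ((DRingKP.rflat_iff _).2 (h y hy)))
    · exact (DRingKP.rflat_iff _).1 (rflat_of_iso (asIso ((stCx y).map ((gmap a).app (O₀ X)))).symm ((DRingKP.rflat_iff _).2 (h y hy)))
  have key : ∀ hC : KFlatOn V C, KFlatOn V C' → KFlatOn V ((GE C).obj (O₀ X)) →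
      KFlatOn V ((GE C').obj (O₀ X)) →
      ((QisOn V (RHomCx.psi P j₀ (ev C (O₀ X))) ↔ QisOn V (RHomCx.psi P j₀ (ev C' (O₀ X)))) ∧
      (QisOn V (RHomCx.psi P j₀ (swp (ev C (O₀ X)))) ↔ QisOn V (RHomCx.psi P j₀ (swp (ev C' (O₀ X))))) ∧
      (QisOn V ((GE C).map u) ↔ QisOn V ((GE C').map u))) := fun hC hC' hG hG' =>
    ⟨(qisOn_psi_iff j₀ hP' _ a _ _ (ev_compat a (O₀ X)) hqg hqa hC hC').symm,
      qisOn_psi_iff j₀ hP' a _ _ _ (swp_compat _ _ _ _ (ev_compat a (O₀ X))) hqa hqg hG' hG,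
      (qisOn_comm_sq ((gmap a).naturality u) hqg (qisOn_gmap V a hC hC' hqa J)).symm⟩
  have hp := asIso (DerivedCategory.Q.map ((DCoh.restrictCx V).map ((gmap a).app (O₀ X))))
  constructor <;> intro h
  · obtain ⟨k₁, k₂, k₃⟩ := key h.flat (hf.1 h.flat) h.gflat (hgf.2 h.gflat)
    exact ⟨hf.1 h.flat, hgf.2 h.gflat, k₁.1 h.psi, k₂.1 h.psi', k₃.1 h.res, DQCoh.perfect_of_iso hp.symm h.perf⟩
  · obtain ⟨k₁, k₂, k₃⟩ := key (hf.2 h.flat) h.flat (hgf.1 h.gflat) h.gflat
    exact ⟨hf.2 h.flat, hgf.1 h.gflat, k₁.2 h.psi, k₂.2 h.psi', k₃.2 h.res, DQCoh.perfect_of_iso hp h.perf⟩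

include hP in
theorem good_of_iso {C C' : CochainComplex X.Modules ℤ} (e : C ≅ C') (h : Good V P j₀ u C) : Good V P j₀ u C' :=
  (good_iff_of_isIso hP e.hom fun _ _ => inferInstance).1 h

/-- a pairing with a unit -/
lemma quasiIso_psi_unit {C G : CochainComplex X.Modules ℤ} (e : FE C ≅ 𝟭 _) (ε : tns G C ⟶ O₀ X) [IsIso ε]
    [QuasiIso j₀] : QuasiIso (RHomCx.psi P j₀ ε) := by
  haveI : (FE C).IsEquivalence := Functor.isEquivalence_of_iso e.symm
  let g : GE C ≅ 𝟭 _ := ((adjE C).ofNatIsoLeft e).rightAdjointUniq Adjunction.id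
  haveI : QuasiIso ((GE C).map j₀) := quasiIso_map_of_natIso g j₀
  rw [RHomCx.psi, Adjunction.homEquiv_unit, Functor.map_comp, Functor.map_comp]
  infer_instance

lemma isIso_ev_unit {C : CochainComplex X.Modules ℤ} (e : FE C ≅ 𝟭 _) (T : CochainComplex X.Modules ℤ) :
    IsIso (ev C T) := by
  haveI : (FE C).IsEquivalence := Functor.isEquivalence_of_iso e.symm
  infer_instance

lemma isKFlat_O₀ : DCoh.IsKFlat (O₀ X) := by
  refine (rflat_iff_sch _).2 fun L hL => acyclic_of_iso ((feUnitIso (X := X)).app L).symm hL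

include hP in
theorem good_zero [QuasiIso j₀] [QuasiIso u] : Good V P j₀ u (O₀ X) := by
  let g := geUnitIso (X := X)
  let G := (GE (O₀ X)).obj (O₀ X)
  have eG : FE G ≅ 𝟭 _ := (DCoh.tensorCx (X := X)).flip.mapIso (g.app (O₀ X)) ≪≫ feUnitIso
  haveI := isIso_ev_unit (feUnitIso (X := X)) (O₀ X)
  refine ⟨kFlatOn_of_isKFlat V isKFlat_O₀, kFlatOn_of_isKFlat V ((rflat_iff_sch _).2
      (rflat_of_iso (g.app (O₀ X)).symm ((rflat_iff_sch _).1 isKFlat_O₀))),
    ?_, ?_, ?_, ?_⟩
  · haveI := quasiIso_psi_unit (P := P) (j₀ := j₀) (feUnitIso (X := X)) (ev (O₀ X) (O₀ X))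
    exact qisOn_of_quasiIso V _
  · haveI := quasiIso_psi_unit (P := P) (j₀ := j₀) eG (swp (ev (O₀ X) (O₀ X)))
    exact qisOn_of_quasiIso V _
  · haveI : QuasiIso ((GE (O₀ X)).map u) := quasiIso_map_of_natIso g u
    exact qisOn_of_quasiIso V _
  · refine DQCoh.perfect_of_iso (DerivedCategory.Q.mapIso ((DCoh.restrictCx V).mapIso (g.app (O₀ X)))).symm ?_
    refine (DerPerf.isPerfect_iff_rep (Iso.refl _)).2 fun x => ⟨⊤, trivial, _,
      DQCoh.isStrictlyPerfect_restrict (⊤ : (V : Scheme.{u}).Opens).ι ?_, ⟨Iso.refl _⟩⟩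
    refine DQCoh.isStrictlyPerfect_restrict V.ι ⟨⟨0, 0, fun i hi => isZero_single_obj_X _ _ _ _ (by omega)⟩, fun i => ?_⟩
    by_cases hi : i = 0
    · subst hi
      exact DQCoh.isFinLocFree_of_iso' ((singleObjXSelf (ComplexShape.up ℤ) 0 (Coh.structureModule X))).symm
        (DQCoh.isFinLocFree_of_iso' (X := X)
          { hom := Sigma.desc fun _ : Fin 1 => 𝟙 (Coh.structureModule X)
            inv := Sigma.ι (fun _ : Fin 1 => Coh.structureModule X) 0
            hom_inv_id := Sigma.hom_ext _ _ fun i => by simp [Subsingleton.elim i 0]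
            inv_hom_id := by simp }
          (RelPCS.isFinLocFree_freeMod (X := X) 1))
    · exact DQCoh.isFinLocFree_of_isZero (isZero_single_obj_X _ _ _ _ hi)

include hP in
theorem good_shift_iff (C : CochainComplex X.Modules ℤ) : Good V P j₀ u C ↔ Good V P j₀ u (C⟦(1 : ℤ)⟧) := by
  have hc : Good V P j₀ u (CochainComplex.mappingCone (𝟙 C)) :=
    good_of_contract hP (CochainComplex.mappingCone.homotopyToZeroOfId C)
  exact ⟨fun h => good_three (coneSplitting (𝟙 C)) h hc, fun h => good_one (coneSplitting (𝟙 C)) hc h⟩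

include hP in
theorem good_single [QuasiIso j₀] [QuasiIso u] (k : ℤ) :
    Good V P j₀ u ((single X.Modules (ComplexShape.up ℤ) k).obj (Coh.structureModule X)) := by
  induction k using Int.induction_on with
  | zero => exact good_zero hP
  | succ m ih =>
    refine (good_shift_iff hP _).2 (good_of_iso hP ?_ ih)
    exact (((CochainComplex.singleFunctors X.Modules).shiftIso 1 (m : ℤ) ((m : ℤ) + 1) (by lia)).app _).symm
  | pred m ih =>
    exact good_of_iso hP (((CochainComplex.singleFunctors X.Modules).shiftIso 1 (-(m : ℤ) - 1) (-(m : ℤ)) (by lia)).app _)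
      ((good_shift_iff hP _).1 ih)

include hP in
theorem good_isZero {C : CochainComplex X.Modules ℤ} (h : IsZero C) : Good V P j₀ u C :=
  good_of_contract hP (Homotopy.ofEq (h.eq_of_src _ _))

end Local

/-- extensions by zero of bounded complexes of finite free modules are good -/
theorem good_eC {W : Scheme.{u}} (j : W ⟶ X) [IsOpenImmersion j] {P : CochainComplex X.Modules ℤ}
    (hP : DCoh.IsKFlat P) {I J : CochainComplex X.Modules ℤ} [I.IsKInjective] [J.IsKInjective]
    (j₀ : tns P (O₀ X) ⟶ I) [QuasiIso j₀] (u : O₀ X ⟶ J) [QuasiIso u]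
    (E : CochainComplex W.Modules ℤ) {a b : ℤ} (hab : ∀ i, i < a ∨ b < i → IsZero (E.X i))
    (hfree : ∀ i, a ≤ i → i ≤ b → ∃ n : ℕ, Nonempty (E.X i ≅ FlatMod.freeMod W n)) :
    Good j.opensRange P j₀ u ((ProjForm.eC j).obj E) := by
  let Q : CochainComplex X.Modules ℤ → Prop := fun C => Good j.opensRange P j₀ u C
  have hiso : ∀ {C C'}, (C ≅ C') → Q C → Q C' := fun e h => good_of_iso hP e h
  have hzero : ∀ C, IsZero C → Q C := fun _ h => good_isZero hP h
  have hmid : ∀ {S : ShortComplex (CochainComplex X.Modules ℤ)},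
      (∀ n, (S.map (eval X.Modules (ComplexShape.up ℤ) n)).Splitting) → Q S.X₁ → Q S.X₃ → Q S.X₂ :=
    fun σ h₁ h₃ => good_two σ h₁ h₃
  have hz : ∀ i, i < a ∨ b < i → IsZero (((ProjForm.eC j).obj E).X i) := fun i hi => (CxOX.extZero j).map_isZero (hab i hi)
  refine Stupid.prop_of_bounded _ Q hiso hzero hmid (fun i hi => hz i (Or.inl hi)) (fun i hi => hz i (Or.inr hi))
    fun i => ?_
  by_cases hi : a ≤ i ∧ i ≤ b
  · obtain ⟨n, ⟨d⟩⟩ := hfree i hi.1 hi.2
    let e : (∐ fun _ : ULift.{u} (Fin n) => Coh.structureModule W) ≅ FlatMod.freeMod W n :=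
      Limits.Sigma.whiskerEquiv (f := fun _ : ULift.{u} (Fin n) => Coh.structureModule W)
        (g := fun _ : Fin n => Coh.structureModule W) Equiv.ulift fun _ => Iso.refl _
    refine hiso ((sgl i).mapIso ((CxOX.extZero j).mapIso (e ≪≫ d.symm))) ?_
    obtain ⟨φ, hφ⟩ := exists_ext_to_free j (ULift.{u} (Fin n))
    refine (good_iff_of_isIso hP ((sgl i).map φ) fun y hy => ?_).2 ?_
    · haveI := hφ y hy
      exact (NatIso.isIso_map_iff
        (HomologicalComplex.singleMapHomologicalComplex (DerSch.stalkFunctor X y) (ComplexShape.up ℤ) i) φ).2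
          (inferInstanceAs (IsIso ((single _ (ComplexShape.up ℤ) i).map ((DerSch.stalkFunctor X y).map φ))))
    · exact prop_single_coprod Q hiso hzero hmid i _ fun _ => good_single hP i
  · exact hzero _ ((single _ (ComplexShape.up ℤ) i).map_isZero (hz i (by omega)))

end Groth.Agent.RHomCx
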