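import Groth.Agent.RHomCx.Derived
import Groth.Agent.KFlat.Pullback
import Groth.Agent.DQCoh.TensorUnit
import Groth.Agent.DQCoh.Devissage
import Groth.Agent.ProjForm.Single
import Mathlib.CategoryTheory.Abelian.Refinements

/-!
Cohomology of internal Hom complexes.
-/

set_option autoImplicit false
set_option backward.isDefEq.respectTransparency false
set_option backward.isDefEq.respectTransparency.types false
set_option linter.style.haveILetI false
set_option linter.unusedSectionVars false

universe u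

open CategoryTheory Limits AlgebraicGeometry HomologicalComplex

namespace Groth.Agent.RHomCx

open Groth.Agent.KFlat

variable {X : Scheme.{u}}

/-- homology in equal degrees -/
noncomputable def hcast (K : CochainComplex X.Modules ℤ) {i j : ℤ} (h : i = j) : K.homology i ≅ K.homology j :=
  eqToIso (by rw [h])

lemma gmap_id (E : CochainComplex X.Modules ℤ) : gmap (𝟙 E) = 𝟙 (GE E) := by
  rw [gmap, CategoryTheory.Functor.map_id, conjugateEquiv_id]

/-- functoriality for isomorphisms -/
noncomputable def geIso {E E' : CochainComplex X.Modules ℤ} (e : E ≅ E') : GE E' ≅ GE E where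
  hom := gmap e.hom
  inv := gmap e.inv
  hom_inv_id := by rw [← gmap_comp, e.inv_hom_id, gmap_id]
  inv_hom_id := by rw [← gmap_comp, e.hom_inv_id, gmap_id]

lemma exactAt_GE_of_homotopy {E I : CochainComplex X.Modules ℤ} (i : ℤ)
    (h : ∀ (Z : X.Modules) (φ : (FE E).obj ((single X.Modules (ComplexShape.up ℤ) i).obj Z) ⟶ I),
      Nonempty (Homotopy φ 0)) : ((GE E).obj I).ExactAt i := by
  rw [exactAt_iff' _ (i - 1) i (i + 1) (by simp) (by simp), ShortComplex.exact_iff_exact_up_to_refinements]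
  intro Z x hx
  let φ : (single X.Modules (ComplexShape.up ℤ) i).obj Z ⟶ (GE E).obj I :=
    mkHomFromSingle x fun j hj => by
      obtain rfl : i + 1 = j := hj
      exact hx
  obtain ⟨H⟩ := (homotopy_mate_iff E φ).2 (h Z _)
  refine ⟨Z, 𝟙 Z, inferInstance, (singleObjXSelf (ComplexShape.up ℤ) i Z).inv ≫ H.hom i (i - 1), ?_⟩
  have e := H.comm i
  rw [HomologicalComplex.zero_f, add_zero, dNext_eq H.hom (show (ComplexShape.up ℤ).Rel i (i + 1) from rfl),
    prevD_eq H.hom (show (ComplexShape.up ℤ).Rel (i - 1) i from by simp), single_obj_d, zero_comp, zero_add,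
    mkHomFromSingle_f] at e
  change 𝟙 Z ≫ x = _ ≫ ((GE E).obj I).d (i - 1) i
  rw [Category.id_comp, Category.assoc, ← e, Iso.inv_hom_id_assoc]

/-- acyclic K-flat complexes -/
lemma acyclic_GE_of_acyclic {C : CochainComplex X.Modules ℤ} (hC : DCoh.IsKFlat C) (h : C.Acyclic)
    (I : CochainComplex X.Modules ℤ) [I.IsKInjective] : ((GE C).obj I).Acyclic := fun i =>
  exactAt_GE_of_homotopy i fun Z φ => ⟨CochainComplex.IsKInjective.homotopyZero φ
    (acyclic_tens_of_acyclic_rflat (B := schB X) (braid X.sheaf) (exists_resolution_site' X.sheaf)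
      ((rflat_iff_sch C).1 hC) h ((single X.Modules (ComplexShape.up ℤ) i).obj Z))⟩

/-- contractible complexes -/
lemma acyclic_GE_of_contractible {C : CochainComplex X.Modules ℤ} (h : Homotopy (𝟙 C) 0)
    (I : CochainComplex X.Modules ℤ) : ((GE C).obj I).Acyclic := fun i =>
  exactAt_GE_of_homotopy i fun Z φ =>
    ⟨(Homotopy.ofEq (Category.id_comp φ).symm).trans ((((Homotopy.ofEq (CategoryTheory.Functor.map_id _ C).symm).trans
      ((homotopyObj (schB X) ((single X.Modules (ComplexShape.up ℤ) i).obj Z) h).trans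
        (Homotopy.ofEq (Functor.map_zero _ _ _)))).compRight φ).trans (Homotopy.ofEq zero_comp))⟩

/-- vanishing for degree reasons -/
lemma isZero_homology_GE {C I : CochainComplex X.Modules ℤ} (a m i : ℤ) [C.IsStrictlyLE m] [I.IsStrictlyGE a]
    (hi : i + m < a) : IsZero (((GE C).obj I).homology i) := by
  refine (exactAt_GE_of_homotopy i fun Z φ => ⟨Homotopy.ofEq ?_⟩).isZero_homology
  refine HomologicalComplex.hom_ext _ _ fun n => ?_
  by_cases hn : n < a
  · exact (I.isZero_of_isStrictlyGE a n hn).eq_of_tgt _ _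
  · refine mapBifunctor.hom_ext fun p q hpq => ?_
    have hpq' : p + q = n := hpq
    refine IsZero.eq_of_src ?_ _ _
    by_cases hp : p = i
    · exact ((schB X).obj _).map_isZero (C.isZero_of_isStrictlyLE m q (by omega))
    · exact ((schB X).flip.obj (C.X q)).map_isZero (isZero_single_obj_X _ _ _ _ hp)

section Sequence

variable {S : ShortComplex (CochainComplex X.Modules ℤ)}
  (σ : ∀ n, (S.map (eval X.Modules (ComplexShape.up ℤ) n)).Splitting) (I : CochainComplex X.Modules ℤ)

include σ in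
/-- closure of a property of cohomology under extensions -/
theorem prop_middle (P : X.Modules → Prop)
    (h5 : ∀ {A₁ A₂ M A₄ A₅ : X.Modules} (f₁ : A₁ ⟶ A₂) (f₂ : A₂ ⟶ M) (f₃ : M ⟶ A₄) (f₄ : A₄ ⟶ A₅)
      (w₁ : f₁ ≫ f₂ = 0) (w₂ : f₂ ≫ f₃ = 0) (w₃ : f₃ ≫ f₄ = 0), (ShortComplex.mk f₁ f₂ w₁).Exact →
      (ShortComplex.mk f₂ f₃ w₂).Exact → (ShortComplex.mk f₃ f₄ w₃).Exact → P A₁ → P A₂ → P A₄ → P A₅ → P M)
    (h₁ : ∀ i, P (((GE S.X₁).obj I).homology i)) (h₃ : ∀ i, P (((GE S.X₃).obj I).homology i)) (i : ℤ) :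
    P (((GE S.X₂).obj I).homology i) := by
  have hT := shortExact_gSC σ I
  exact h5 _ _ _ _ _ _ _ (hT.homology_exact₁ (i - 1) i (by simp)) (hT.homology_exact₂ i)
    (hT.homology_exact₃ i (i + 1) (by simp)) (h₁ (i - 1)) (h₃ i) (h₁ i) (h₃ (i + 1))

include σ in
/-- an acyclic middle term gives an isomorphism in adjacent degrees -/
theorem nonempty_iso_of_acyclic (h : ((GE S.X₂).obj I).Acyclic) (i : ℤ) :
    Nonempty (((GE S.X₁).obj I).homology i ≅ ((GE S.X₃).obj I).homology (i + 1)) := by
  have hT := shortExact_gSC σ I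
  have h' : ∀ j, IsZero (((GE S.X₂).obj I).homology j) := fun j => (h j).isZero_homology
  haveI := hT.isIso_δ i (i + 1) (by simp) (h' i) (h' (i + 1))
  exact ⟨asIso (hT.δ i (i + 1) rfl)⟩

end Sequence

/-- shifting the first argument -/
theorem nonempty_GE_shift (E I : CochainComplex X.Modules ℤ) (i : ℤ) :
    Nonempty (((GE E).obj I).homology i ≅ ((GE (E⟦(1 : ℤ)⟧)).obj I).homology (i + 1)) :=
  nonempty_iso_of_acyclic (coneSplitting (𝟙 E)) I
    (acyclic_GE_of_contractible (CochainComplex.mappingCone.homotopyToZeroOfId E) I) i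

/-- quasi-isomorphisms of K-flat complexes -/
theorem nonempty_GE_qis {K L : CochainComplex X.Modules ℤ} (u : K ⟶ L) [QuasiIso u] (hK : DCoh.IsKFlat K)
    (hL : DCoh.IsKFlat L) (I : CochainComplex X.Modules ℤ) [I.IsKInjective] (i : ℤ) :
    Nonempty (((GE K).obj I).homology i ≅ ((GE L).obj I).homology i) := by
  obtain ⟨e₁⟩ := nonempty_iso_of_acyclic (coneSplitting u) I
    (acyclic_GE_of_acyclic (rflat_mappingCone_sch u hK hL) (mappingCone_acyclic u) I) i
  obtain ⟨e₂⟩ := nonempty_GE_shift K I i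
  exact ⟨e₂ ≪≫ e₁.symm⟩

/-- naturality of `singleXIso` -/
lemma singleXIso_natural {L L' : CochainComplex X.Modules ℤ} (g : L ⟶ L') (F : X.Modules) (n : ℤ) :
    ((schB X).flip.obj F).map (g.f n) ≫ (singleXIso (schB X) L' F 0 n n (add_zero n)).hom =
      (singleXIso (schB X) L F 0 n n (add_zero n)).hom ≫
        (((DCoh.tensorCx (X := X)).map g).app ((single X.Modules (ComplexShape.up ℤ) 0).obj F)).f n := by
  let S := (single X.Modules (ComplexShape.up ℤ) 0).obj F
  have e : HomologicalComplex.ιMapBifunctor L S (schB X) (ComplexShape.up ℤ) n 0 n (add_zero n) ≫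
      (((DCoh.tensorCx (X := X)).map g).app S).f n =
        ((schB X).map (g.f n)).app (S.X 0) ≫
          HomologicalComplex.ιMapBifunctor L' S (schB X) (ComplexShape.up ℤ) n 0 n (add_zero n) :=
    (ι_mapBifunctorMap g (𝟙 S) (schB X) _ n 0 n (add_zero n)).trans (by simp)
  change ((schB X).map (g.f n)).app F ≫ ((schB X).obj (L'.X n)).map _ ≫ _ =
    (((schB X).obj (L.X n)).map _ ≫ _) ≫ _
  rw [Category.assoc, e, ← Category.assoc, ← Category.assoc, ((schB X).map (g.f n)).naturality]

/-- `- ⊗ O[0] = 𝟭` -/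
noncomputable def feUnitIso : FE ((single X.Modules (ComplexShape.up ℤ) 0).obj (Coh.structureModule X)) ≅
    𝟭 (CochainComplex X.Modules ℤ) :=
  (NatIso.ofComponents
    (fun L => tensSingleIso (schB X) L (Coh.structureModule X)) fun {L L'} g => by
      refine HomologicalComplex.hom_ext _ _ fun n => ?_
      exact singleXIso_natural g _ n).symm ≪≫
    NatIso.mapHomologicalComplex (DQCoh.tensUnitNat X) (ComplexShape.up ℤ) ≪≫
    Functor.mapHomologicalComplexIdIso X.Modules (ComplexShape.up ℤ)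

/-- `Hom(O[0], I) = I` -/
noncomputable def geUnitIso :
    GE ((single X.Modules (ComplexShape.up ℤ) 0).obj (Coh.structureModule X)) ≅ 𝟭 (CochainComplex X.Modules ℤ) :=
  ((adjE _).ofNatIsoLeft feUnitIso).rightAdjointUniq Adjunction.id

/-- the structure module in degree `k` -/
theorem nonempty_GE_single (I : CochainComplex X.Modules ℤ) (k i : ℤ) :
    Nonempty (((GE ((single X.Modules (ComplexShape.up ℤ) k).obj (Coh.structureModule X))).obj I).homology i ≅
      I.homology (i + k)) := by
  induction k using Int.induction_on generalizing i with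
  | zero => exact ⟨(homologyFunctor _ _ i).mapIso (geUnitIso.app I) ≪≫ hcast I (add_zero i).symm⟩
  | succ m ih =>
    let S := (single X.Modules (ComplexShape.up ℤ) ((m : ℤ) + 1)).obj (Coh.structureModule X)
    obtain ⟨e⟩ := nonempty_GE_shift S I i
    obtain ⟨e'⟩ := ih (i + 1)
    exact ⟨e ≪≫ ((homologyFunctor _ _ (i + 1)).mapIso ((geIso
      (((CochainComplex.singleFunctors X.Modules).shiftIso 1 (m : ℤ) ((m : ℤ) + 1) (by lia)).app _)).app I)).symm ≪≫
      e' ≪≫ hcast I (show i + 1 + (m : ℤ) = i + ((m : ℤ) + 1) by lia)⟩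
  | pred m ih =>
    let S := (single X.Modules (ComplexShape.up ℤ) (-(m : ℤ))).obj (Coh.structureModule X)
    obtain ⟨e⟩ := nonempty_GE_shift S I (i - 1)
    obtain ⟨e'⟩ := ih (i - 1)
    exact ⟨hcast _ (sub_add_cancel i 1).symm ≪≫ (homologyFunctor _ _ (i - 1 + 1)).mapIso ((geIso
      (((CochainComplex.singleFunctors X.Modules).shiftIso 1 (-(m : ℤ) - 1) (-(m : ℤ)) (by lia)).app _)).app I) ≪≫
      e.symm ≪≫ e' ≪≫ hcast I (show i - 1 + -(m : ℤ) = i + (-(m : ℤ) - 1) by lia)⟩

end Groth.Agent.RHomCx
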