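import Groth.Agent.RHomCx.Adj
import Groth.Agent.KFlat.LTensorCx
import Groth.Agent.KInj.Ops

/-!
`RHom(E, -)` is computed by the internal Hom complex.
-/

set_option autoImplicit false
set_option backward.isDefEq.respectTransparency false
set_option backward.isDefEq.respectTransparency.types false
set_option linter.style.haveILetI false
set_option linter.unusedSectionVars false

universe u

open CategoryTheory Limits AlgebraicGeometry HomologicalComplex

attribute [local instance] HasDerivedCategory.standard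

namespace Groth.Agent.RHomCx

open Groth.Agent.KFlat

/-- generic: maps of the form `g ≫ adjunct` -/
lemma bijective_comp_of_mate {C D : Type*} [Category* C] [Category* D] {L : C ⥤ D} {R : D ⥤ C} (a : L ⊣ R)
    {A W : C} {Z : D} (ε : L.obj W ⟶ Z) (h : Function.Bijective fun g : A ⟶ W => L.map g ≫ ε) :
    Function.Bijective fun g : A ⟶ W => g ≫ a.homEquiv W Z ε := by
  have e : (fun g : A ⟶ W => g ≫ a.homEquiv W Z ε) = fun g => a.homEquiv A Z (L.map g ≫ ε) :=
    funext fun g => (a.homEquiv_naturality_left g ε).symm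
  rw [e]
  exact (a.homEquiv A Z).bijective.comp h

/-- generic: a derived adjunction computed by an adjunction on complexes -/
lemma bijective_mate {A₀ D₀ : Type*} [Category* A₀] [Category* D₀] {Q : A₀ ⥤ D₀} {F G : A₀ ⥤ A₀} (a : F ⊣ G)
    {L : D₀ ⥤ D₀} (α : Q ⋙ L ⟶ F ⋙ Q) (hα : ∀ A, IsIso (α.app A)) (A I : A₀)
    (hsurj : ∀ t : Q.obj (F.obj A) ⟶ Q.obj I, ∃ t₀, Q.map t₀ = t)
    (hsurj' : ∀ t : Q.obj A ⟶ Q.obj (G.obj I), ∃ t₀, Q.map t₀ = t)
    (heq : ∀ f g : A ⟶ G.obj I, Q.map ((a.homEquiv A I).symm f) = Q.map ((a.homEquiv A I).symm g) → Q.map f = Q.map g) :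
    Function.Bijective fun g : Q.obj A ⟶ Q.obj (G.obj I) =>
      L.map g ≫ α.app (G.obj I) ≫ Q.map (a.counit.app I) := by
  have key : ∀ f : A ⟶ G.obj I, L.map (Q.map f) ≫ α.app (G.obj I) ≫ Q.map (a.counit.app I) =
      α.app A ≫ Q.map ((a.homEquiv A I).symm f) := fun f => by
    rw [← Category.assoc, show L.map (Q.map f) ≫ α.app (G.obj I) = α.app A ≫ Q.map (F.map f) from α.naturality f,
      Category.assoc, ← Q.map_comp, a.homEquiv_counit]
  constructor
  · intro g g' h
    obtain ⟨f, rfl⟩ := hsurj' g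
    obtain ⟨f', rfl⟩ := hsurj' g'
    dsimp only at h
    rw [key, key] at h
    haveI := hα A
    exact heq f f' ((cancel_epi _).1 h)
  · intro h
    haveI := hα A
    obtain ⟨t, ht⟩ := hsurj (inv (α.app A) ≫ h)
    refine ⟨Q.map (a.homEquiv A I t), ?_⟩
    dsimp only
    rw [key, Equiv.symm_apply_apply, ht, IsIso.hom_inv_id_assoc]

variable {X : Scheme.{u}} (E : CochainComplex X.Modules ℤ)

attribute [local instance] preservesBinaryBiproducts_of_preservesBinaryCoproducts in
instance additive_FE : (FE E).Additive := Functor.additive_of_preservesBinaryBiproducts _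

lemma mate_sub {A I : CochainComplex X.Modules ℤ} (f g : A ⟶ (GE E).obj I) :
    ((adjE E).homEquiv A I).symm (f - g) =
      ((adjE E).homEquiv A I).symm f - ((adjE E).homEquiv A I).symm g := by
  rw [(adjE E).homEquiv_counit, (adjE E).homEquiv_counit, (adjE E).homEquiv_counit, Functor.map_sub,
    Preadditive.sub_comp]

/-- **`RHom(E, -)` on a K-injective complex** -/
theorem nonempty_RHom_iso (hE : DCoh.IsKFlat E) [DCoh.HasLTensorCx E] [DCoh.HasRSheafHom E]
    (I : CochainComplex X.Modules ℤ) [I.IsKInjective] :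
    Nonempty ((DCoh.RSheafHom E).obj (DerivedCategory.Q.obj I) ≅ DerivedCategory.Q.obj ((GE E).obj I)) := by
  haveI := isKInjective_GE I hE
  let W := DerivedCategory.Q.obj ((GE E).obj I)
  let ε : (DCoh.LTensorCx E).obj W ⟶ DerivedCategory.Q.obj I :=
    (ltCounit E).app ((GE E).obj I) ≫ DerivedCategory.Q.map ((adjE E).counit.app I)
  let η : W ⟶ (DCoh.RSheafHom E).obj (DerivedCategory.Q.obj I) := (DCoh.RSheafHomAdj E).homEquiv W _ ε
  suffices IsIso η from ⟨(asIso η).symm⟩
  rw [isIso_iff_yoneda_map_bijective]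
  intro Z
  haveI : DerivedCategory.Q.EssSurj (C := CochainComplex X.Modules ℤ) := Localization.essSurj _
    (HomologicalComplex.quasiIso X.Modules (ComplexShape.up ℤ))
  let A := DerivedCategory.Q.objPreimage Z
  let e : DerivedCategory.Q.obj A ≅ Z := DerivedCategory.Q.objObjPreimageIso Z
  have hA : Function.Bijective fun g : DerivedCategory.Q.obj A ⟶ W => g ≫ η := by
    refine bijective_comp_of_mate (DCoh.RSheafHomAdj E) ε (bijective_mate (adjE E) (ltCounit E)
      (fun B => isIso_ltCounit_app_of_kFlat hE B) A I (fun t => KInj.Q_map_surjective t)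
      (fun t => KInj.Q_map_surjective t) fun f g h => ?_)
    obtain ⟨H⟩ := KInj.nonempty_homotopy_of_Q_map_eq h
    rw [← mate_sub] at H
    obtain ⟨H'⟩ := (homotopy_mate_iff E (f - g)).2 ⟨H⟩
    exact DerivedCategory.Q_map_eq_of_homotopy _ (Homotopy.equivSubZero.symm H')
  constructor
  · intro g g' h
    refine (cancel_epi e.hom).1 (hA.1 ?_)
    dsimp only at h ⊢
    rw [Category.assoc, Category.assoc, h]
  · intro t
    obtain ⟨g, hg⟩ := hA.2 (e.hom ≫ t)
    refine ⟨e.inv ≫ g, ?_⟩
    dsimp only at hg ⊢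
    rw [Category.assoc, hg, Iso.inv_hom_id_assoc]

end Groth.Agent.RHomCx
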