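import Groth.Agent.RHomCx.RestrictD
import Groth.Agent.RHomCx.CohFive
import Groth.Agent.KFlat.BoundedRes
import Groth.Agent.DQPush.Restrict
import Groth.Agent.DQCoh.AffinePerf
import Groth.Agent.K0Coh.Basic
import Groth.Agent.ProjForm.Stupid
import Groth.Agent.DerPerf.Tensor

/-!
Cohomology sheaves of `RHom` and their local structure.
-/

set_option autoImplicit false
set_option backward.isDefEq.respectTransparency false
set_option backward.isDefEq.respectTransparency.types false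
set_option linter.style.haveILetI false
set_option linter.unusedSectionVars false

universe u

open CategoryTheory Limits AlgebraicGeometry HomologicalComplex

attribute [local instance] HasDerivedCategory.standard

namespace Groth.Agent.RHomCx

open Groth.Agent.KFlat

variable {X : Scheme.{u}}

/-- K-flat complexes tensored with a quasi-isomorphism -/
lemma quasiIso_obj_map_of_kFlat {A : CochainComplex X.Modules ℤ} (hA : DCoh.IsKFlat A)
    {K L : CochainComplex X.Modules ℤ} (q : K ⟶ L) [QuasiIso q] :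
    QuasiIso ((DCoh.tensorCx.obj A).map q) :=
  quasiIso_obj_map_of_acyclic (B := schB X) A q
    (acyclic_of_iso (swapIso (braid X.sheaf) _ A)
      ((rflat_iff_sch A).1 hA _ (mappingCone_acyclic q)))

/-- `- ⊗^L K` depends on `K` up to quasi-isomorphism -/
theorem nonempty_LTensorCx_iso {K L : CochainComplex X.Modules ℤ} (q : K ⟶ L) [QuasiIso q]
    [DCoh.HasLTensorCx K] [DCoh.HasLTensorCx L] : Nonempty (DCoh.LTensorCx K ≅ DCoh.LTensorCx L) := by
  let Q₀ := (DerivedCategory.Q : CochainComplex X.Modules ℤ ⥤ _)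
  let W := HomologicalComplex.quasiIso X.Modules (ComplexShape.up ℤ)
  let rQ : resF X ⋙ Q₀ ≅ Q₀ :=
    haveI : ∀ A, IsIso (Q₀.map ((resψ X).app A)) := fun A => inferInstance
    NatIso.ofComponents (fun A => asIso (Q₀.map ((resψ X).app A))) fun {A B} a =>
      (Q₀.map_comp _ _).symm.trans ((congrArg Q₀.map ((resψ X).naturality a)).trans (Q₀.map_comp _ _))
  have h1 : ∀ (Z : CochainComplex X.Modules ℤ) [DCoh.HasLTensorCx Z],
      Nonempty (Q₀ ⋙ DCoh.LTensorCx Z ≅ resF X ⋙ FE Z ⋙ Q₀) := fun Z _ => by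
    haveI : ∀ A, IsIso ((ltCounit Z).app ((resF X).obj A)) := fun A => isIso_ltCounit_app Z (isKFlat_resF A)
    exact ⟨Functor.isoWhiskerRight rQ.symm _ ≪≫ Functor.associator _ _ _ ≪≫
      NatIso.ofComponents (fun A => asIso ((ltCounit Z).app ((resF X).obj A)))
        fun a => (ltCounit Z).naturality ((resF X).map a)⟩
  haveI : ∀ A, IsIso (Q₀.map (((DCoh.tensorCx (X := X)).flip.map q).app ((resF X).obj A))) := fun A => by
    haveI : QuasiIso (((DCoh.tensorCx (X := X)).flip.map q).app ((resF X).obj A)) :=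
      quasiIso_obj_map_of_kFlat (isKFlat_resF A) q
    infer_instance
  let m : resF X ⋙ FE K ⋙ Q₀ ≅ resF X ⋙ FE L ⋙ Q₀ :=
    NatIso.ofComponents (fun A => asIso (Q₀.map (((DCoh.tensorCx (X := X)).flip.map q).app ((resF X).obj A))))
      fun a => (Functor.whiskerRight ((DCoh.tensorCx (X := X)).flip.map q) Q₀).naturality ((resF X).map a)
  obtain ⟨eK⟩ := h1 K
  obtain ⟨eL⟩ := h1 L
  exact ⟨Localization.liftNatIso Q₀ W (Q₀ ⋙ DCoh.LTensorCx K) (Q₀ ⋙ DCoh.LTensorCx L) _ _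
    (eK ≪≫ m ≪≫ eL.symm)⟩

/-- **cohomology sheaves of `RHom(K, -)`** on a K-injective complex -/
theorem nonempty_HD_RSheafHom (K : CochainComplex X.Modules ℤ) [DCoh.HasLTensorCx K] [DCoh.HasRSheafHom K]
    (I : CochainComplex X.Modules ℤ) [I.IsKInjective] (i : ℤ) :
    Nonempty (DCoh.HD ((DCoh.RSheafHom K).obj (DerivedCategory.Q.obj I)) i ≅
      ((GE ((resF X).obj K)).obj I).homology i) := by
  haveI := hasLTensorCx ((resF X).obj K)
  obtain ⟨Φ⟩ := nonempty_LTensorCx_iso (K := (resF X).obj K) (L := K) ((resψ X).app K)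
  haveI : DCoh.HasRSheafHom ((resF X).obj K) := Functor.isLeftAdjoint_of_iso Φ.symm
  obtain ⟨e⟩ := nonempty_RHom_iso ((resF X).obj K) (isKFlat_resF K) I
  let e' := ((DCoh.RSheafHomAdj K).ofNatIsoLeft Φ.symm).rightAdjointUniq
    (DCoh.RSheafHomAdj ((resF X).obj K))
  exact ⟨(DerivedCategory.homologyFunctor _ i).mapIso (e'.app _ ≪≫ e) ≪≫
    KFlat.hdIso ((GE ((resF X).obj K)).obj I) i⟩

/-- `Hom(-, I)` sees K-flat complexes only up to isomorphism in the derived category -/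
theorem nonempty_GE_congr {K L : CochainComplex X.Modules ℤ} (hK : DCoh.IsKFlat K) (hL : DCoh.IsKFlat L)
    (e : DerivedCategory.Q.obj K ≅ DerivedCategory.Q.obj L) (I : CochainComplex X.Modules ℤ) [I.IsKInjective]
    (i : ℤ) : Nonempty (((GE K).obj I).homology i ≅ ((GE L).obj I).homology i) := by
  obtain ⟨M, s, hs, g, hg⟩ := DerivedCategory.right_fac e.hom
  haveI := hs
  haveI : QuasiIso s := (DerivedCategory.isIso_Q_map_iff_quasiIso _ s).1 hs
  haveI : IsIso (DerivedCategory.Q.map g) := by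
    have h : DerivedCategory.Q.map g = DerivedCategory.Q.map s ≫ e.hom := by
      rw [hg, IsIso.hom_inv_id_assoc]
    rw [h]; infer_instance
  haveI : QuasiIso g := (DerivedCategory.isIso_Q_map_iff_quasiIso _ g).1 inferInstance
  obtain ⟨e₁⟩ := nonempty_GE_qis ((resψ X).app M ≫ s) (isKFlat_resF M) hK I i
  obtain ⟨e₂⟩ := nonempty_GE_qis ((resψ X).app M ≫ g) (isKFlat_resF M) hL I i
  exact ⟨e₁.symm ≪≫ e₂⟩

section Restrict

variable (V : X.Opens)

/-- `restrictCx` is right adjoint to the extension by zero -/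
noncomputable def adjR : ProjForm.eC V.ι ⊣ DCoh.restrictCx V :=
  KInj.mapHomologicalComplexAdj (CxOX.extZeroAdj V.ι) (ComplexShape.up ℤ)

/-- `Hom(E, I)|_V = Hom(E|_V, I|_V)` -/
noncomputable def geRestrictIso (E : CochainComplex X.Modules ℤ) :
    GE E ⋙ DCoh.restrictCx V ≅ DCoh.restrictCx V ⋙ GE ((DCoh.restrictCx V).obj E) :=
  (((adjR V).comp (adjE E)).ofNatIsoLeft (thetaIso' V E).symm).rightAdjointUniq
    ((adjE ((DCoh.restrictCx V).obj E)).comp (adjR V))

/-- restriction commutes with cohomology -/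
noncomputable def restrictHIso (C : CochainComplex X.Modules ℤ) (i : ℤ) :
    ((DCoh.restrictCx V).obj C).homology i ≅ (C.homology i).restrict V.ι :=
  (C.sc i).mapHomologyIso (Scheme.Modules.restrictFunctor V.ι)

/-- `H^i(Hom(E, I))|_V = H^i(Hom(E|_V, I|_V))` -/
noncomputable def geRestrictHIso (E I : CochainComplex X.Modules ℤ) (i : ℤ) :
    (((GE E).obj I).homology i).restrict V.ι ≅
      ((GE ((DCoh.restrictCx V).obj E)).obj ((DCoh.restrictCx V).obj I)).homology i :=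
  (restrictHIso V _ i).symm ≪≫ (homologyFunctor _ _ i).mapIso ((geRestrictIso V E).app I)

lemma isKInjective_restrictCx (I : CochainComplex X.Modules ℤ) [I.IsKInjective] :
    CochainComplex.IsKInjective ((DCoh.restrictCx V).obj I) :=
  DQPush.isKInjective_restrict V I inferInstance

end Restrict

lemma isZero_FE {C : CochainComplex X.Modules ℤ} (h : IsZero C) (A : CochainComplex X.Modules ℤ) :
    IsZero ((FE C).obj A) :=
  Functor.map_isZero ((DCoh.tensorCx (X := X)).obj A) h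

/-- modules in one degree, for finite free modules -/
lemma prop_free (P : X.Modules → Prop)
    (hiso : ∀ {A B : X.Modules}, (A ≅ B) → P A → P B) (hzero : ∀ A : X.Modules, IsZero A → P A)
    (h5 : ∀ {A₁ A₂ M A₄ A₅ : X.Modules} (f₁ : A₁ ⟶ A₂) (f₂ : A₂ ⟶ M) (f₃ : M ⟶ A₄) (f₄ : A₄ ⟶ A₅)
      (w₁ : f₁ ≫ f₂ = 0) (w₂ : f₂ ≫ f₃ = 0) (w₃ : f₃ ≫ f₄ = 0), (ShortComplex.mk f₁ f₂ w₁).Exact →
      (ShortComplex.mk f₂ f₃ w₂).Exact → (ShortComplex.mk f₃ f₄ w₃).Exact → P A₁ → P A₂ → P A₄ → P A₅ → P M)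
    (I : CochainComplex X.Modules ℤ) (hI : ∀ j, P (I.homology j))
    (E : CochainComplex X.Modules ℤ) {a b : ℤ} (ha : ∀ i, i < a → IsZero (E.X i)) (hb : ∀ i, b < i → IsZero (E.X i))
    (hfree : ∀ i, ∃ n : ℕ, Nonempty (E.X i ≅ FlatMod.freeMod X n)) (i : ℤ) :
    P (((GE E).obj I).homology i) := by
  let Q : CochainComplex X.Modules ℤ → Prop := fun C => ∀ j, P (((GE C).obj I).homology j)
  have hQiso : ∀ {C C' : CochainComplex X.Modules ℤ}, (C ≅ C') → Q C → Q C' := fun e h j =>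
    hiso ((homologyFunctor _ _ j).mapIso ((geIso e).app I)).symm (h j)
  have hQzero : ∀ C, IsZero C → Q C := fun C h j => hzero _
    ((exactAt_GE_of_homotopy j fun Z φ =>
      ⟨Homotopy.ofEq ((isZero_FE h _).eq_of_src φ 0)⟩).isZero_homology)
  have hQmid : ∀ {S : ShortComplex (CochainComplex X.Modules ℤ)},
      (∀ n, (S.map (eval X.Modules (ComplexShape.up ℤ) n)).Splitting) → Q S.X₁ → Q S.X₃ → Q S.X₂ :=
    fun σ h₁ h₃ j => prop_middle σ I P h5 h₁ h₃ j
  refine ProjForm.Stupid.prop_of_bounded E Q hQiso hQzero hQmid ha hb (fun k => ?_) i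
  obtain ⟨n, ⟨e⟩⟩ := hfree k
  let e' : FlatMod.freeMod X n ≅ ∐ fun _ : ULift.{u} (Fin n) => Coh.structureModule X :=
    Sigma.whiskerEquiv (g := fun _ : ULift.{u} (Fin n) => Coh.structureModule X) Equiv.ulift.symm
      fun _ => Iso.refl _
  refine hQiso ((single X.Modules (ComplexShape.up ℤ) k).mapIso (e ≪≫ e').symm) ?_
  exact ProjForm.prop_single_coprod Q hQiso hQzero hQmid k _ fun _ j =>
    hiso (nonempty_GE_single I k j).some.symm (hI (j + k))

/-- **`Hom(E, I)` for strictly perfect `E`**: local properties of cohomology sheaves -/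
theorem prop_strictlyPerfect (P : ∀ Y : Scheme.{u}, Y.Modules → Prop)
    {E : CochainComplex X.Modules ℤ} (hE : DCoh.IsStrictlyPerfect E)
    (hiso : ∀ (W : X.Opens) {A B : (W : Scheme.{u}).Modules}, (A ≅ B) → P W A → P W B)
    (hzero : ∀ (W : X.Opens) (A : (W : Scheme.{u}).Modules), IsZero A → P W A)
    (h5 : ∀ (W : X.Opens) {A₁ A₂ M A₄ A₅ : (W : Scheme.{u}).Modules} (f₁ : A₁ ⟶ A₂) (f₂ : A₂ ⟶ M) (f₃ : M ⟶ A₄) (f₄ : A₄ ⟶ A₅)
      (w₁ : f₁ ≫ f₂ = 0) (w₂ : f₂ ≫ f₃ = 0) (w₃ : f₃ ≫ f₄ = 0), (ShortComplex.mk f₁ f₂ w₁).Exact →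
      (ShortComplex.mk f₂ f₃ w₂).Exact → (ShortComplex.mk f₃ f₄ w₃).Exact → P W A₁ → P W A₂ → P W A₄ → P W A₅ → P W M)
    (hlocal : ∀ {M : X.Modules}, (∀ x : X, ∃ W : X.Opens, x ∈ W ∧ P W (M.restrict W.ι)) → P X M)
    (hres : ∀ (W : X.Opens) {M : X.Modules}, P X M → P W (M.restrict W.ι))
    (I : CochainComplex X.Modules ℤ) (hI : ∀ j, P X (I.homology j)) (i : ℤ) :
    P X (((GE E).obj I).homology i) := by
  obtain ⟨⟨a, b, hab⟩, hfl⟩ := hE
  refine hlocal fun x => ?_
  obtain ⟨W, hW, hfree⟩ := DerPerf.exists_common_free (Finset.Icc a b) (fun n => E.X n) (fun n _ => hfl n) x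
  refine ⟨W, hW, hiso W (geRestrictHIso W E I i).symm (prop_free (P W) (hiso W) (hzero W) (h5 W) _
    (fun j => hiso W (restrictHIso W I j).symm (hres W (hI j))) _ (a := a) (b := b)
    (fun n hn => (Scheme.Modules.restrictFunctor W.ι).map_isZero (hab n (Or.inl hn))) (fun n hn => (Scheme.Modules.restrictFunctor W.ι).map_isZero (hab n (Or.inr hn)))
    (fun n => ?_) i)⟩
  by_cases hn : n ∈ Finset.Icc a b
  · obtain ⟨m, ⟨e⟩⟩ := hfree n hn
    exact ⟨m, ⟨(Scheme.Modules.restrictFunctorIsoPullback W.ι).app (E.X n) ≪≫ e⟩⟩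
  · refine ⟨0, ⟨((Scheme.Modules.restrictFunctor W.ι).map_isZero (hab n (by rw [Finset.mem_Icc] at hn; omega))).iso ?_⟩⟩
    rw [IsZero.iff_id_eq_zero]
    exact Sigma.hom_ext _ _ fun j => j.elim0

end Groth.Agent.RHomCx
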