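import Mathlib.Algebra.Homology.Double
import Mathlib.Algebra.Homology.Homotopy
import Mathlib.Algebra.Homology.HomologicalComplexAbelian
import Mathlib.Algebra.Homology.ShortComplex.ShortExact

/-!
Contractible two-term complexes and extensions of null-homotopic maps.
-/

set_option autoImplicit false
set_option backward.isDefEq.respectTransparency false
set_option backward.isDefEq.respectTransparency.types false
set_option linter.unusedSectionVars false

universe w v

open CategoryTheory Limits HomologicalComplex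

namespace Groth.Agent.RHomCx

variable {A : Type w} [Category.{v} A] [Abelian A]

lemma rel_succ (n : ℤ) : (ComplexShape.up ℤ).Rel n (n + 1) := rfl

/-- the contractible complex `M = M` in degrees `n, n+1` -/
noncomputable abbrev disk (M : A) (n : ℤ) : CochainComplex A ℤ := double (𝟙 M) (rel_succ n)

/-- morphisms out of a disk -/
noncomputable def diskEquiv (M : A) (n : ℤ) (K : CochainComplex A ℤ) : (disk M n ⟶ K) ≃ (M ⟶ K.X n) :=
  (evalCompCoyonedaCorepresentableByDoubleId (C := A) (rel_succ n) (by omega) M).homEquiv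

lemma diskEquiv_comp {M : A} {n : ℤ} {K L : CochainComplex A ℤ} (φ : disk M n ⟶ K) (g : K ⟶ L) :
    diskEquiv M n L (φ ≫ g) = diskEquiv M n K φ ≫ g.f n :=
  (evalCompCoyonedaCorepresentableByDoubleId (C := A) (rel_succ n) (by omega) M).homEquiv_comp g φ

/-- disks are contractible -/
noncomputable def diskContract (M : A) (n : ℤ) : Homotopy (𝟙 (disk M n)) 0 :=
  let hom : ∀ i j : ℤ, (disk M n).X i ⟶ (disk M n).X j := fun i j =>
    if h : i = n + 1 ∧ j = n then eqToHom (by rw [h.1]) ≫ (doubleXIso₁ (𝟙 M) (rel_succ n) (by omega)).hom ≫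
      (doubleXIso₀ (𝟙 M) (rel_succ n)).inv ≫ eqToHom (by rw [h.2]) else 0
  (Homotopy.ofEq (by
    refine from_double_hom_ext ?_ ?_
    · rw [Homotopy.nullHomotopicMap_f (show (ComplexShape.up ℤ).Rel (n - 1) n from by simp) (rel_succ n) hom]
      simp [hom, double_d _ _ (show n ≠ n + 1 by omega)]
    · rw [Homotopy.nullHomotopicMap_f (rel_succ n) (rel_succ (n + 1)) hom]
      simp [hom, double_d _ _ (show n ≠ n + 1 by omega)])).trans
    (Homotopy.nullHomotopy hom fun i j hij => dif_neg fun h => hij (by rw [h.1, h.2]; rfl))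

/-- null-homotopic maps extend along degreewise split monomorphisms -/
theorem exists_extension {P P' Z : CochainComplex A ℤ} (ι : P ⟶ P') (r : ∀ n, P'.X n ⟶ P.X n)
    (hr : ∀ n, ι.f n ≫ r n = 𝟙 _) {g : P ⟶ Z} (h : Homotopy g 0) :
    ∃ g' : P' ⟶ Z, ι ≫ g' = g ∧ Nonempty (Homotopy g' 0) := by
  refine ⟨Homotopy.nullHomotopicMap fun i j => r i ≫ h.hom i j, ?_,
    ⟨Homotopy.nullHomotopy _ fun i j hij => by rw [h.zero i j hij, comp_zero]⟩⟩
  rw [Homotopy.comp_nullHomotopicMap]
  ext n
  have hg := h.comm n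
  rw [HomologicalComplex.zero_f, add_zero, dNext_eq h.hom (rel_succ n),
    prevD_eq h.hom (show (ComplexShape.up ℤ).Rel (n - 1) n from by simp)] at hg
  rw [Homotopy.nullHomotopicMap_f (show (ComplexShape.up ℤ).Rel (n - 1) n from by simp) (rel_succ n), hg]
  simp only [reassoc_of% (hr n), reassoc_of% (hr (n + 1))]

/-- a short complex split on morphisms from every object -/
theorem nonempty_splitting_of_homs (S : ShortComplex A)
    (hinj : ∀ (M : A) (φ : M ⟶ S.X₁), φ ≫ S.f = 0 → φ = 0)
    (hker : ∀ (M : A) (φ : M ⟶ S.X₂), φ ≫ S.g = 0 → ∃ ψ, ψ ≫ S.f = φ)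
    (hsurj : ∀ (M : A) (φ : M ⟶ S.X₃), ∃ ψ, ψ ≫ S.g = φ) : Nonempty S.Splitting := by
  haveI : Mono S.f := Preadditive.mono_of_cancel_zero _ fun {M} φ h => hinj M φ h
  obtain ⟨s, hs⟩ := hsurj _ (𝟙 S.X₃)
  obtain ⟨ψ, hψ⟩ := hker _ (kernel.ι S.g) (kernel.condition _)
  have he : S.Exact := by
    refine ShortComplex.exact_of_f_is_kernel _ ?_
    exact KernelFork.IsLimit.ofι' S.f S.zero fun {M} φ h => ⟨(hker M φ h).choose, (hker M φ h).choose_spec⟩
  exact ⟨ShortComplex.Splitting.ofExactOfSection S he s hs inferInstance⟩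

end Groth.Agent.RHomCx
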