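import Groth.Agent.RHomCx.Qis
import Groth.Agent.RHomCx.AssocNat
import Groth.Agent.DQCoh.PCCalc

/-!
Pairings `G ⊗ C ⟶ T` and the maps `P ⊗ G ⟶ Hom(C, I)` they induce.
-/

set_option autoImplicit false
set_option backward.isDefEq.respectTransparency false
set_option backward.isDefEq.respectTransparency.types false
set_option linter.style.haveILetI false
set_option linter.unusedSectionVars false

universe u

open CategoryTheory Limits AlgebraicGeometry HomologicalComplex MonoidalCategory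

attribute [local instance] HasDerivedCategory.standard

namespace Groth.Agent.RHomCx

open Groth.Agent.KFlat Groth.Agent.ProjForm

section TwoOfThree

variable {A : Type*} [Category* A] [Abelian A] [HasDerivedCategory A] {S T : ShortComplex (CochainComplex A ℤ)}
  (φ : S ⟶ T) (hS : S.ShortExact) (hT : T.ShortExact)

/-- the morphism of triangles -/
noncomputable def triHom : Pretriangulated.Triangle.mk (DerivedCategory.Q.map S.f) (DerivedCategory.Q.map S.g)
      (DerivedCategory.triangleOfSESδ hS) ⟶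
    Pretriangulated.Triangle.mk (DerivedCategory.Q.map T.f) (DerivedCategory.Q.map T.g)
      (DerivedCategory.triangleOfSESδ hT) where
  hom₁ := DerivedCategory.Q.map φ.τ₁
  hom₂ := DerivedCategory.Q.map φ.τ₂
  hom₃ := DerivedCategory.Q.map φ.τ₃
  comm₁ := (DerivedCategory.Q.map_comp _ _).symm.trans ((congrArg _ φ.comm₁₂.symm).trans (DerivedCategory.Q.map_comp _ _))
  comm₂ := (DerivedCategory.Q.map_comp _ _).symm.trans ((congrArg _ φ.comm₂₃.symm).trans (DerivedCategory.Q.map_comp _ _))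
  comm₃ := DerivedCategory.triangleOfSESδ_naturality hS hT φ

include hS hT in
lemma quasiIso_τ₁' [h₂ : QuasiIso φ.τ₂] [h₃ : QuasiIso φ.τ₃] : QuasiIso φ.τ₁ :=
  (DerivedCategory.isIso_Q_map_iff_quasiIso _ _).1 (Pretriangulated.isIso₁_of_isIso₂₃ (triHom φ hS hT)
    (DerivedCategory.triangleOfSES_distinguished hS) (DerivedCategory.triangleOfSES_distinguished hT)
    (inferInstanceAs (IsIso (DerivedCategory.Q.map φ.τ₂))) (inferInstanceAs (IsIso (DerivedCategory.Q.map φ.τ₃))))

include hS hT in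
lemma quasiIso_τ₂' [h₁ : QuasiIso φ.τ₁] [h₃ : QuasiIso φ.τ₃] : QuasiIso φ.τ₂ :=
  (DerivedCategory.isIso_Q_map_iff_quasiIso _ _).1 (Pretriangulated.isIso₂_of_isIso₁₃ (triHom φ hS hT)
    (DerivedCategory.triangleOfSES_distinguished hS) (DerivedCategory.triangleOfSES_distinguished hT)
    (inferInstanceAs (IsIso (DerivedCategory.Q.map φ.τ₁))) (inferInstanceAs (IsIso (DerivedCategory.Q.map φ.τ₃))))

include hS hT in
lemma quasiIso_τ₃' [h₁ : QuasiIso φ.τ₁] [h₂ : QuasiIso φ.τ₂] : QuasiIso φ.τ₃ :=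
  (DerivedCategory.isIso_Q_map_iff_quasiIso _ _).1 (Pretriangulated.isIso₃_of_isIso₁₂ (triHom φ hS hT)
    (DerivedCategory.triangleOfSES_distinguished hS) (DerivedCategory.triangleOfSES_distinguished hT)
    (inferInstanceAs (IsIso (DerivedCategory.Q.map φ.τ₁))) (inferInstanceAs (IsIso (DerivedCategory.Q.map φ.τ₂))))

end TwoOfThree

variable {X : Scheme.{u}}

/-- tensor product of complexes -/
noncomputable abbrev tns (A B : CochainComplex X.Modules ℤ) : CochainComplex X.Modules ℤ :=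
  (DCoh.tensorCx.obj A).obj B

section QisThree

variable {V : X.Opens} {S T : ShortComplex (CochainComplex X.Modules ℤ)} (φ : S ⟶ T)
  (hS : S.ShortExact) (hT : T.ShortExact)

/-- two out of three over `V` -/
structure TwoThree (p₁ p₂ p₃ : Prop) : Prop where
  one : p₂ → p₃ → p₁
  two : p₁ → p₃ → p₂
  three : p₁ → p₂ → p₃

include hS hT in
lemma qisOn_twoThree : TwoThree (QisOn V φ.τ₁) (QisOn V φ.τ₂) (QisOn V φ.τ₃) := by
  have st : ∀ (U : ShortComplex (CochainComplex X.Modules ℤ)), U.ShortExact → ∀ y : X, (U.map (stCx y)).ShortExact :=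
    fun U hU y => HomologicalComplex.shortExact_of_degreewise_shortExact _ fun n =>
      (hU.map_of_exact (eval _ (ComplexShape.up ℤ) n)).map_of_exact (DerSch.stalkFunctor X y)
  refine ⟨fun a b y hy => ?_, fun a b y hy => ?_, fun a b y hy => ?_⟩
  · exact @quasiIso_τ₁' _ _ _ _ _ _ ((stCx y).mapShortComplex.map φ) (st S hS y) (st T hT y) (a y hy) (b y hy)
  · exact @quasiIso_τ₂' _ _ _ _ _ _ ((stCx y).mapShortComplex.map φ) (st S hS y) (st T hT y) (a y hy) (b y hy)
  · exact @quasiIso_τ₃' _ _ _ _ _ _ ((stCx y).mapShortComplex.map φ) (st S hS y) (st T hT y) (a y hy) (b y hy)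

end QisThree

section Psi

variable (P : CochainComplex X.Modules ℤ) {T I : CochainComplex X.Modules ℤ} (j : tns P T ⟶ I)
  {G G' C C' : CochainComplex X.Modules ℤ}

/-- `P ⊗ G ⟶ Hom(C, I)` induced by a pairing -/
noncomputable def psi (ε : tns G C ⟶ T) : tns P G ⟶ (GE C).obj I :=
  (adjE C).homEquiv (tns P G) I ((assocTot X.sheaf P G C).hom ≫ (DCoh.tensorCx.obj P).map ε ≫ j)

/-- **naturality in the pairing** -/
theorem psi_natural (b : G' ⟶ G) (a : C ⟶ C') (ε : tns G C ⟶ T) (ε' : tns G' C' ⟶ T)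
    (h : (DCoh.tensorCx.map b).app C ≫ ε = (DCoh.tensorCx.obj G').map a ≫ ε') :
    psi P j ε' ≫ (gmap a).app I = (DCoh.tensorCx.obj P).map b ≫ psi P j ε := by
  refine ((adjE C).homEquiv _ _).symm.injective ?_
  rw [homEquiv_gmap', (adjE C).homEquiv_naturality_left_symm, psi, psi, Equiv.symm_apply_apply,
    Equiv.symm_apply_apply]
  have e₂ : (DCoh.tensorCx.obj (tns P G')).map a ≫ (assocTot X.sheaf P G' C').hom =
      (assocTot X.sheaf P G' C).hom ≫ (DCoh.tensorCx.obj P).map ((DCoh.tensorCx.obj G').map a) :=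
    assocTot_natural₃ X.sheaf P G' a
  have e₁ : (FE C).map ((DCoh.tensorCx.obj P).map b) ≫ (assocTot X.sheaf P G C).hom =
      (assocTot X.sheaf P G' C).hom ≫ (DCoh.tensorCx.obj P).map ((DCoh.tensorCx.map b).app C) :=
    assocTot_natural₂ X.sheaf P b C
  rw [reassoc_of% e₂, reassoc_of% e₁, ← Functor.map_comp_assoc, ← Functor.map_comp_assoc, h]

end Psi

/-- the evaluation -/
noncomputable abbrev ev (C T : CochainComplex X.Modules ℤ) : tns ((GE C).obj T) C ⟶ T := (adjE C).counit.app T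

lemma ev_compat {C C' : CochainComplex X.Modules ℤ} (a : C ⟶ C') (T : CochainComplex X.Modules ℤ) :
    (DCoh.tensorCx.map ((gmap a).app T)).app C ≫ ev C T = (DCoh.tensorCx.obj ((GE C').obj T)).map a ≫ ev C' T := by
  have h := homEquiv_gmap' a (A := (GE C').obj T) (I := T) (𝟙 _)
  rw [Category.id_comp, (adjE C).homEquiv_counit, (adjE C').homEquiv_counit] at h
  rw [CategoryTheory.Functor.map_id, Category.id_comp] at h
  exact h

lemma ev_natural (C : CochainComplex X.Modules ℤ) {T T' : CochainComplex X.Modules ℤ} (u : T ⟶ T') :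
    (DCoh.tensorCx.map ((GE C).map u)).app C ≫ ev C T' = ev C T ≫ u :=
  (adjE C).counit.naturality u

/-- the swapped pairing -/
noncomputable abbrev swp {G C T : CochainComplex X.Modules ℤ} (ε : tns G C ⟶ T) : tns C G ⟶ T :=
  (swapIso (braid X.sheaf) C G).hom ≫ ε

lemma swp_compat {G G' C C' T : CochainComplex X.Modules ℤ} (b : G' ⟶ G) (a : C ⟶ C') (ε : tns G C ⟶ T)
    (ε' : tns G' C' ⟶ T) (h : (DCoh.tensorCx.map b).app C ≫ ε = (DCoh.tensorCx.obj G').map a ≫ ε') :
    (DCoh.tensorCx.map a).app G' ≫ swp ε' = (DCoh.tensorCx.obj C).map b ≫ swp ε := by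
  have e₁ : (DCoh.tensorCx.map a).app G' ≫ (swapIso (braid X.sheaf) C' G').hom =
      (swapIso (braid X.sheaf) C G').hom ≫ (DCoh.tensorCx.obj G').map a :=
    swapIso_natural (braid X.sheaf) a (𝟙 G')
  have e₂ : (DCoh.tensorCx.obj C).map b ≫ (swapIso (braid X.sheaf) C G).hom =
      (swapIso (braid X.sheaf) C G').hom ≫ (DCoh.tensorCx.map b).app C :=
    swapIso_natural (braid X.sheaf) (𝟙 C) b
  rw [reassoc_of% e₁, reassoc_of% e₂, h]

lemma qisOn_comm_sq {V : X.Opens} {A B A' B' : CochainComplex X.Modules ℤ} {f : A ⟶ B} {g : A' ⟶ B'} {p : A ⟶ A'}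
    {q : B ⟶ B'} (h : f ≫ q = p ≫ g) (hp : QisOn V p) (hq : QisOn V q) : QisOn V f ↔ QisOn V g :=
  ⟨fun hf => QisOn.of_comp_left hp (h ▸ hf.comp hq), fun hg => QisOn.of_comp_right hq (h.symm ▸ hp.comp hg)⟩

section Invariance

variable {V : X.Opens} {P T I : CochainComplex X.Modules ℤ} (j : tns P T ⟶ I) [I.IsKInjective]
  {G G' C C' : CochainComplex X.Modules ℤ}

/-- tensoring with a K-flat complex preserves quasi-isomorphisms over `V` -/
lemma qisOn_tns (hP : DCoh.IsKFlat P) {G G' : CochainComplex X.Modules ℤ} (b : G' ⟶ G) (hb : QisOn V b) :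
    QisOn V ((DCoh.tensorCx.obj P).map b) := fun y hy =>
  quasiIso_map_of_acyclic_cone b ((DCoh.tensorCx (X := X)).obj P ⋙ stCx y)
    (fun S σ => (shortExact_of_splitting fun n =>
      (splittingObj (schB X) P S σ n).map (DerSch.stalkFunctor X y)))
    (fun h i => (((DerSch.stalkFunctor X y).mapHomotopy (homotopyObj (schB X) P h))).homologyMap_eq i)
    (acyclic_of_iso (stTotIso y P _)
      (RFlat.acyclic_tens_left (DRingKP.tBraid _) ((DRingKP.rflat_iff _).2 ((isKFlat_iff_stalks P).1 hP y))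
        ((acycOn_cone_iff b).2 hb y hy)))

/-- **invariance of the induced map** -/
theorem qisOn_psi_iff (hP : DCoh.IsKFlat P) (b : G' ⟶ G) (a : C ⟶ C') (ε : tns G C ⟶ T) (ε' : tns G' C' ⟶ T)
    (h : (DCoh.tensorCx.map b).app C ≫ ε = (DCoh.tensorCx.obj G').map a ≫ ε') (hb : QisOn V b) (ha : QisOn V a)
    (hC : KFlatOn V C) (hC' : KFlatOn V C') : QisOn V (psi P j ε') ↔ QisOn V (psi P j ε) :=
  qisOn_comm_sq (psi_natural P j b a ε ε' h) (qisOn_tns hP b hb) (qisOn_gmap V a hC hC' ha I)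

end Invariance

end Groth.Agent.RHomCx
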