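import Groth.Agent.RHomCx.Contract
import Groth.Agent.KFlat.Scheme
import Groth.Agent.DQCoh.Coprod
import Groth.Agent.DQCoh.Tensor
import Groth.Agent.DerPush.Basic
import Mathlib.CategoryTheory.Adjunction.AdjointFunctorTheorems
import Mathlib.Algebra.Homology.GrothendieckAbelian
import Mathlib.CategoryTheory.Adjunction.Mates

/-!
The internal Hom complex as right adjoint of the tensor product of complexes.
-/

set_option autoImplicit false
set_option backward.isDefEq.respectTransparency false
set_option backward.isDefEq.respectTransparency.types false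
set_option linter.style.haveILetI false
set_option linter.unusedSectionVars false

universe u

open CategoryTheory Limits AlgebraicGeometry HomologicalComplex

namespace Groth.Agent.RHomCx

open Groth.Agent.KFlat

/-- mates of morphisms followed by a conjugate -/
lemma homEquiv_conjugate {C D : Type*} [Category* C] [Category* D] {L₁ L₂ : C ⥤ D} {R₁ R₂ : D ⥤ C}
    (a₁ : L₁ ⊣ R₁) (a₂ : L₂ ⊣ R₂) (t : L₂ ⟶ L₁) {A : C} {I : D} (φ : A ⟶ R₁.obj I) :
    (a₂.homEquiv A I).symm (φ ≫ (conjugateEquiv a₁ a₂ t).app I) = t.app A ≫ (a₁.homEquiv A I).symm φ := by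
  rw [a₂.homEquiv_counit, a₁.homEquiv_counit, Functor.map_comp, Category.assoc, conjugateEquiv_counit,
    t.naturality_assoc]

variable {X : Scheme.{u}}

/-- `A ↦ A ⊗ E` on complexes -/
noncomputable abbrev FE (E : CochainComplex X.Modules ℤ) : CochainComplex X.Modules ℤ ⥤ CochainComplex X.Modules ℤ :=
  (DCoh.tensorCx (X := X)).flip.obj E

lemma isLeftAdjoint_FE (E : CochainComplex X.Modules ℤ) : (FE E).IsLeftAdjoint := by
  haveI := DerPush.isGrothendieckAbelian_modules X
  haveI : IsGrothendieckAbelian.{u} (CochainComplex X.Modules ℤ) := inferInstance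
  haveI : PreservesColimitsOfSize.{u, u} (FE E) :=
    ⟨fun {J} _ => DQCoh.preservesColimitsOfShape_tens_flip (schB X)
      (fun M => (DQCoh.preservesColimits_flip M).preservesColimitsOfShape) E⟩
  exact isLeftAdjoint_of_preservesColimits_of_isSeparating (isSeparator_separator (CochainComplex X.Modules ℤ)) (FE E)

instance (E : CochainComplex X.Modules ℤ) : (FE E).IsLeftAdjoint := isLeftAdjoint_FE E

/-- the internal Hom complex `Hom(E, -)` -/
noncomputable def GE (E : CochainComplex X.Modules ℤ) : CochainComplex X.Modules ℤ ⥤ CochainComplex X.Modules ℤ :=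
  (FE E).rightAdjoint

/-- `- ⊗ E ⊣ Hom(E, -)` -/
noncomputable def adjE (E : CochainComplex X.Modules ℤ) : FE E ⊣ GE E := Adjunction.ofIsLeftAdjoint _

instance (E : CochainComplex X.Modules ℤ) : (GE E).IsRightAdjoint := (adjE E).isRightAdjoint

/-- contravariance -/
noncomputable def gmap {E E' : CochainComplex X.Modules ℤ} (a : E ⟶ E') : GE E' ⟶ GE E :=
  conjugateEquiv (adjE E') (adjE E) ((DCoh.tensorCx (X := X)).flip.map a)

/-- the mate of a morphism into `Hom(E', I)` followed by `gmap` -/
lemma homEquiv_gmap' {E E' : CochainComplex X.Modules ℤ} (a : E ⟶ E') {A I : CochainComplex X.Modules ℤ}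
    (φ : A ⟶ (GE E').obj I) :
    ((adjE E).homEquiv A I).symm (φ ≫ (gmap a).app I) =
      ((DCoh.tensorCx (X := X)).obj A).map a ≫ ((adjE E').homEquiv A I).symm φ :=
  homEquiv_conjugate (adjE E') (adjE E) ((DCoh.tensorCx (X := X)).flip.map a) φ

lemma gmate_zero (E : CochainComplex X.Modules ℤ) (A I : CochainComplex X.Modules ℤ) :
    ((adjE E).homEquiv A I).symm 0 = 0 := by
  rw [(adjE E).homEquiv_counit, Functor.map_zero, zero_comp]

lemma gmap_comp {E E' E'' : CochainComplex X.Modules ℤ} (a : E ⟶ E') (b : E' ⟶ E'') :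
    gmap (a ≫ b) = gmap b ≫ gmap a := by
  rw [gmap, gmap, gmap, conjugateEquiv_comp, Functor.map_comp]

lemma gmap_zero {E E' : CochainComplex X.Modules ℤ} (I : CochainComplex X.Modules ℤ) :
    (gmap (0 : E ⟶ E')).app I = 0 := by
  refine ((adjE E).homEquiv _ I).symm.injective ?_
  rw [← Category.id_comp ((gmap (0 : E ⟶ E')).app I), homEquiv_gmap', Functor.map_zero, zero_comp, gmate_zero]

/-- the homotopy contracting `disk ⊗ E` -/
noncomputable def diskTensContract (M : X.Modules) (n : ℤ) (E : CochainComplex X.Modules ℤ) :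
    Homotopy (𝟙 ((FE E).obj (disk M n))) 0 :=
  (Homotopy.ofEq ((FE E).map_id _).symm).trans
    ((homotopyFlip (schB X) E (diskContract M n)).trans (Homotopy.ofEq (Functor.map_zero _ _ _)))

variable {S : ShortComplex (CochainComplex X.Modules ℤ)}
  (σ : ∀ n, (S.map (eval X.Modules (ComplexShape.up ℤ) n)).Splitting) (I : CochainComplex X.Modules ℤ)

/-- `Hom(-, I)` of a short complex -/
noncomputable def gSC (S : ShortComplex (CochainComplex X.Modules ℤ)) (I : CochainComplex X.Modules ℤ) :
    ShortComplex (CochainComplex X.Modules ℤ) :=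
  ShortComplex.mk ((gmap S.g).app I) ((gmap S.f).app I) (by
    rw [← NatTrans.comp_app, ← gmap_comp, S.zero, gmap_zero])

include σ in
/-- `Hom(-, I)` is exact on degreewise split sequences -/
theorem nonempty_splitting_gSC (n : ℤ) :
    Nonempty ((gSC S I).map (eval X.Modules (ComplexShape.up ℤ) n)).Splitting := by
  have key : ∀ M : X.Modules, ∀ E : CochainComplex X.Modules ℤ, ∀ φ : M ⟶ ((GE E).obj I).X n,
      ∃ φ' : disk M n ⟶ (GE E).obj I, diskEquiv M n _ φ' = φ := fun M E φ => ⟨_, Equiv.apply_symm_apply _ φ⟩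
  have hS : ∀ A : CochainComplex X.Modules ℤ, (S.map ((DCoh.tensorCx (X := X)).obj A)).ShortExact := fun A =>
    shortExact_of_splitting (splittingObj (schB X) A S σ)
  refine nonempty_splitting_of_homs _ (fun M φ hφ => ?_) (fun M φ hφ => ?_) fun M φ => ?_
  · obtain ⟨φ', rfl⟩ := key M S.X₃ φ
    have h : φ' ≫ (gmap S.g).app I = 0 := (diskEquiv M n _).injective (by
      rw [diskEquiv_comp]; exact hφ.trans (by
        rw [← comp_zero (f := φ') (Z := (GE S.X₂).obj I), diskEquiv_comp, HomologicalComplex.zero_f, comp_zero]))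
    have h' := congrArg (((adjE S.X₂).homEquiv (disk M n) I).symm) h
    rw [homEquiv_gmap', gmate_zero] at h'
    haveI : Epi (((DCoh.tensorCx (X := X)).obj (disk M n)).map S.g) := (hS (disk M n)).epi_g
    have h'' : ((adjE S.X₃).homEquiv (disk M n) I).symm φ' = 0 := (cancel_epi _).1 (h'.trans comp_zero.symm)
    have : φ' = 0 := ((adjE S.X₃).homEquiv (disk M n) I).symm.injective (h''.trans (gmate_zero _ _ _).symm)
    rw [this, ← comp_zero (f := 𝟙 (disk M n)) (Z := (GE S.X₃).obj I), diskEquiv_comp, HomologicalComplex.zero_f,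
      comp_zero]
  · obtain ⟨φ', rfl⟩ := key M S.X₂ φ
    have h : φ' ≫ (gmap S.f).app I = 0 := (diskEquiv M n _).injective (by
      rw [diskEquiv_comp]; exact hφ.trans (by
        rw [← comp_zero (f := φ') (Z := (GE S.X₁).obj I), diskEquiv_comp, HomologicalComplex.zero_f, comp_zero]))
    have h' := congrArg (((adjE S.X₁).homEquiv (disk M n) I).symm) h
    rw [homEquiv_gmap', gmate_zero] at h'
    haveI := (hS (disk M n)).epi_g
    let d := (hS (disk M n)).exact.desc _ h'
    let ψ' := (adjE S.X₃).homEquiv (disk M n) I d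
    refine ⟨diskEquiv M n _ ψ', (diskEquiv_comp ψ' ((gmap S.g).app I)).symm.trans (congrArg (diskEquiv M n _) ?_)⟩
    refine ((adjE S.X₂).homEquiv (disk M n) I).symm.injective ?_
    rw [homEquiv_gmap', Equiv.symm_apply_apply]
    exact (hS (disk M n)).exact.g_desc _ h'
  · obtain ⟨φ', rfl⟩ := key M S.X₁ φ
    let g := ((adjE S.X₁).homEquiv (disk M n) I).symm φ'
    let hg : Homotopy g 0 := (Homotopy.ofEq (Category.id_comp g).symm).trans
      (((diskTensContract M n S.X₁).compRight g).trans (Homotopy.ofEq zero_comp))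
    obtain ⟨g', hg', -⟩ := exists_extension (((DCoh.tensorCx (X := X)).obj (disk M n)).map S.f)
      (fun m => (splittingObj (schB X) (disk M n) S σ m).r) (fun m => (splittingObj (schB X) (disk M n) S σ m).f_r) hg
    refine ⟨diskEquiv M n _ ((adjE S.X₂).homEquiv (disk M n) I g'),
      (diskEquiv_comp _ ((gmap S.f).app I)).symm.trans (congrArg (diskEquiv M n _) ?_)⟩
    refine ((adjE S.X₁).homEquiv (disk M n) I).symm.injective ?_
    rw [homEquiv_gmap', Equiv.symm_apply_apply]
    exact hg'

include σ in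
theorem shortExact_gSC : (gSC S I).ShortExact :=
  HomologicalComplex.shortExact_of_degreewise_shortExact _ fun n => (nonempty_splitting_gSC σ I n).some.shortExact

/-- homotopic maps have homotopic mates -/
theorem homotopy_mate_iff (E : CochainComplex X.Modules ℤ) {A I : CochainComplex X.Modules ℤ}
    (φ : A ⟶ (GE E).obj I) :
    Nonempty (Homotopy φ 0) ↔ Nonempty (Homotopy (((adjE E).homEquiv A I).symm φ) 0) := by
  let C := CochainComplex.mappingCone (𝟙 A)
  let ι : A ⟶ C := CochainComplex.mappingCone.inr (𝟙 A)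
  have hι : ∀ n, ι.f n ≫ (CochainComplex.mappingCone.snd (𝟙 A)).v n n (add_zero n) = 𝟙 _ := fun n =>
    CochainComplex.mappingCone.inr_f_snd_v (𝟙 A) n
  let hC := CochainComplex.mappingCone.homotopyToZeroOfId A
  constructor
  · rintro ⟨h⟩
    obtain ⟨g', hg', -⟩ := exists_extension ι _ hι h
    rw [← hg', (adjE E).homEquiv_naturality_left_symm]
    exact ⟨((Homotopy.ofEq ((congrArg ((FE E).map ι ≫ ·) (by
        rw [(FE E).map_id, Category.id_comp] : (FE E).map (𝟙 C) ≫ _ = ((adjE E).homEquiv C I).symm g')).symm)).trans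
      ((((homotopyFlip (schB X) E hC).compRight _).compLeft _).trans
        (Homotopy.ofEq (by rw [Functor.map_zero, zero_comp, comp_zero]))))⟩
  · rintro ⟨h⟩
    have hr : ∀ n, ((FE E).map ι).f n ≫ (splittingFlip (schB X) E (coneSC (𝟙 A)) (coneSplitting (𝟙 A)) n).r = 𝟙 _ :=
      fun n => (splittingFlip (schB X) E (coneSC (𝟙 A)) (coneSplitting (𝟙 A)) n).f_r
    obtain ⟨g', hg', -⟩ := exists_extension ((FE E).map ι) _ hr h
    have : φ = ι ≫ (adjE E).homEquiv C I g' := by
      rw [← (adjE E).homEquiv_naturality_left, hg', Equiv.apply_symm_apply]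
    rw [this]
    exact ⟨(Homotopy.ofEq (congrArg (ι ≫ ·) (Category.id_comp _).symm)).trans
      (((hC.compRight _).compLeft ι).trans (Homotopy.ofEq (by rw [zero_comp, comp_zero])))⟩

/-- `Hom(E, -)` preserves K-injectives for K-flat `E` -/
theorem isKInjective_GE {E : CochainComplex X.Modules ℤ} (hE : DCoh.IsKFlat E) [hI : I.IsKInjective] :
    CochainComplex.IsKInjective ((GE E).obj I) := ⟨fun {K} f hK =>
  (homotopy_mate_iff E f).2 ⟨CochainComplex.IsKInjective.homotopyZero _ ((rflat_iff_sch E).1 hE K hK)⟩⟩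

end Groth.Agent.RHomCx
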