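import Groth.Agent.RHomCx.GEInv
import Groth.Agent.RHomCx.DualMain
import Groth.Agent.RigidD.Main

/-!
The biduality map `C ⟶ Hom(Hom(C, I), I)`: formal properties, and free complexes.
-/

set_option autoImplicit false
set_option backward.isDefEq.respectTransparency false
set_option backward.isDefEq.respectTransparency.types false
set_option linter.style.haveILetI false
set_option linter.unusedSectionVars false
set_option maxHeartbeats 1000000

universe u

open CategoryTheory Limits AlgebraicGeometry HomologicalComplex MonoidalCategory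

attribute [local instance] HasDerivedCategory.standard

namespace Groth.Agent.RHomCx

open Groth.Agent.KFlat Groth.Agent.ProjForm

variable {X : Scheme.{u}}

/-- the swapped evaluation -/
noncomputable def pr (I C : CochainComplex X.Modules ℤ) : (FE ((GE C).obj I)).obj C ⟶ I :=
  swp (G := (GE C).obj I) (C := C) (T := I) (ev C I)

/-- generic mate -/
noncomputable def adjunctE {G C T : CochainComplex X.Modules ℤ} (ε : (FE G).obj C ⟶ T) : C ⟶ (GE G).obj T :=
  (adjE G).homEquiv C T ε

/-- the biduality map -/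
noncomputable def bd (I C : CochainComplex X.Modules ℤ) : C ⟶ (GE ((GE C).obj I)).obj I :=
  adjunctE (pr I C)

/-- naturality -/
theorem bd_natural (I : CochainComplex X.Modules ℤ) {C C' : CochainComplex X.Modules ℤ} (a : C ⟶ C') :
    a ≫ bd I C' = bd I C ≫ (gmap ((gmap a).app I)).app I := by
  refine ((adjE ((GE C').obj I)).homEquiv _ _).symm.injective ?_
  rw [homEquiv_gmap', (adjE _).homEquiv_naturality_left_symm, bd, bd, adjunctE, adjunctE, Equiv.symm_apply_apply,
    Equiv.symm_apply_apply]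
  exact swp_compat ((gmap a).app I) a (ev C I) (ev C' I) (ev_compat a I)

section Local

variable {V : X.Opens} (I : CochainComplex X.Modules ℤ)

/-- two out of three -/
theorem bd_twoThree {S : ShortComplex (CochainComplex X.Modules ℤ)}
    (σ : ∀ n, (S.map (eval X.Modules (ComplexShape.up ℤ) n)).Splitting) :
    TwoThree (QisOn V (bd I S.X₁)) (QisOn V (bd I S.X₂)) (QisOn V (bd I S.X₃)) := by
  let φ : S ⟶ gSC (gSC S I) I :=
    { τ₁ := bd I S.X₁
      τ₂ := bd I S.X₂
      τ₃ := bd I S.X₃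
      comm₁₂ := (bd_natural I S.f).symm
      comm₂₃ := (bd_natural I S.g).symm }
  exact qisOn_twoThree φ (shortExact_of_splitting σ)
    (shortExact_gSC (fun n => (nonempty_splitting_gSC σ I n).some) I)

variable [I.IsKInjective]

/-- invariance under quasi-isomorphisms -/
theorem qisOn_bd_iff {C C' : CochainComplex X.Modules ℤ} (a : C ⟶ C') [QuasiIso a] :
    QisOn V (bd I C) ↔ QisOn V (bd I C') := by
  haveI := quasiIso_gmap a I
  haveI := quasiIso_gmap ((gmap a).app I) I
  exact qisOn_comm_sq (bd_natural I a).symm (qisOn_of_quasiIso V a) (qisOn_of_quasiIso V _)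

/-- invariance under quasi-isomorphisms over `V` of K-flat complexes -/
theorem qisOn_bd_iff_of_qisOn {C C' : CochainComplex X.Modules ℤ} (a : C ⟶ C') (ha : QisOn V a)
    (hC : KFlatOn V C) (hC' : KFlatOn V C') : QisOn V (bd I C) ↔ QisOn V (bd I C') := by
  have hR : ∀ D : CochainComplex X.Modules ℤ, KFlatOn V ((resF X).obj D) := fun D =>
    kFlatOn_of_isKFlat V (isKFlat_resF D)
  let b := (gmap a).app I
  have hb := qisOn_gmap V a hC hC' ha I
  have hrb := qisOn_gmap V ((resF X).map b) (hR _) (hR _) (qisOn_resF_map b hb) I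
  haveI := fun D => quasiIso_gmap ((resψ X).app D) I
  have hgb : QisOn V ((gmap b).app I) := by
    refine (qisOn_comm_sq (f := (gmap b).app I) (g := (gmap ((resF X).map b)).app I)
      (p := (gmap ((resψ X).app ((GE C).obj I))).app I) (q := (gmap ((resψ X).app ((GE C').obj I))).app I)
      ?_ (qisOn_of_quasiIso V _) (qisOn_of_quasiIso V _)).2 hrb
    rw [← NatTrans.comp_app, ← NatTrans.comp_app, ← gmap_comp, ← gmap_comp, (resψ X).naturality b]
    rfl
  exact qisOn_comm_sq (bd_natural I a).symm ha hgb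

theorem qisOn_bd_of_iso {C C' : CochainComplex X.Modules ℤ} (e : C ≅ C') (h : QisOn V (bd I C)) :
    QisOn V (bd I C') :=
  (qisOn_bd_iff I e.hom).1 h

theorem qisOn_bd_of_contract {C : CochainComplex X.Modules ℤ} (h : Homotopy (𝟙 C) 0) : QisOn V (bd I C) :=
  qisOn_of_acyclic V _ (acyclic_of_contract h)
    (acyclic_GE_of_acyclic' (acyclic_GE_of_contractible h I) I)

theorem qisOn_bd_shift_iff (C : CochainComplex X.Modules ℤ) :
    QisOn V (bd I C) ↔ QisOn V (bd I (C⟦(1 : ℤ)⟧)) := by
  have hc : QisOn V (bd I (CochainComplex.mappingCone (𝟙 C))) :=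
    qisOn_bd_of_contract I (CochainComplex.mappingCone.homotopyToZeroOfId C)
  exact ⟨fun h => (bd_twoThree I (coneSplitting (𝟙 C))).three h hc,
    fun h => (bd_twoThree I (coneSplitting (𝟙 C))).one hc h⟩

/-- a pairing `O ⊗ E ⟶ I` which is a quasi-isomorphism gives `O = Hom(E, I)` when `E` is rigid -/
theorem quasiIso_adjunct {E : CochainComplex X.Modules ℤ} (hE : DCoh.IsKFlat E) (s : E ⟶ I) [QuasiIso s]
    (p : tns (O₀ X) E ⟶ I) [QuasiIso p]
    (h : ∀ (x : X) (W : X.Opens), x ∈ W → RigidD.RigidNear (DCoh.toD X E) x W) :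
    QuasiIso ((adjE E).homEquiv (O₀ X) I p) := by
  haveI := KFlat.hasLTensorCx E
  haveI := hasRSheafHom E
  haveI := isKInjective_GE I hE
  let W := DerivedCategory.Q.obj ((GE E).obj I)
  let ε : (DCoh.LTensorCx E).obj W ⟶ DerivedCategory.Q.obj I :=
    (ltCounit E).app ((GE E).obj I) ≫ DerivedCategory.Q.map ((adjE E).counit.app I)
  let η : W ⟶ (DCoh.RSheafHom E).obj (DerivedCategory.Q.obj I) := (DCoh.RSheafHomAdj E).homEquiv W _ ε
  haveI : IsIso η := by
    rw [isIso_iff_yoneda_map_bijective]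
    intro Z
    haveI : DerivedCategory.Q.EssSurj (C := CochainComplex X.Modules ℤ) := Localization.essSurj _
      (HomologicalComplex.quasiIso X.Modules (ComplexShape.up ℤ))
    let A := DerivedCategory.Q.objPreimage Z
    let e : DerivedCategory.Q.obj A ≅ Z := DerivedCategory.Q.objObjPreimageIso Z
    have hA : Function.Bijective fun g : DerivedCategory.Q.obj A ⟶ W => g ≫ η := by
      refine bijective_comp_of_mate (DCoh.RSheafHomAdj E) ε (bijective_mate (adjE E) (ltCounit E)
        (fun B => isIso_ltCounit_app_of_kFlat hE B) A I (fun t => KInj.Q_map_surjective t)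
        (fun t => KInj.Q_map_surjective t) fun f g h => ?_)
      obtain ⟨H⟩ := KInj.nonempty_homotopy_of_Q_map_eq h
      rw [← mate_sub] at H
      obtain ⟨H'⟩ := (homotopy_mate_iff E (f - g)).2 ⟨H⟩
      exact DerivedCategory.Q_map_eq_of_homotopy _ (Homotopy.equivSubZero.symm H')
    have hfun : (fun g : Z ⟶ W => g ≫ η) =
        (Iso.homFromEquiv e) ∘ (fun g : DerivedCategory.Q.obj A ⟶ W => g ≫ η) ∘ (Iso.homFromEquiv e).symm := by
      funext g
      simp
    exact hfun ▸ ((Iso.homFromEquiv e).bijective.comp (hA.comp (Iso.homFromEquiv e).symm.bijective))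
  haveI := isIso_ltCounit_app_of_kFlat hE (O₀ X)
  let e₀ : DCoh.inD X (Coh.structureModule X) ≅ DerivedCategory.Q.obj (O₀ X) :=
    (DerivedCategory.singleFunctorIsoCompQ X.Modules 0).app _
  let υ : (DCoh.LTensorCx E).obj (DCoh.inD X (Coh.structureModule X)) ≅ DCoh.toD X E :=
    (DCoh.LTensorCx E).mapIso e₀ ≪≫ asIso ((ltCounit E).app (O₀ X)) ≪≫
      asIso (DerivedCategory.Q.map p) ≪≫ (asIso (DerivedCategory.Q.map s)).symm
  haveI := RigidD.isIso_homEquiv E υ h
  let α : DerivedCategory.Q.obj (O₀ X) ⟶ W := DerivedCategory.Q.map ((adjE E).homEquiv (O₀ X) I p)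
  have key : (DCoh.LTensorCx E).map α ≫ ε = (ltCounit E).app (O₀ X) ≫ DerivedCategory.Q.map p := by
    rw [← Category.assoc, show (DCoh.LTensorCx E).map α ≫ (ltCounit E).app ((GE E).obj I) =
      (ltCounit E).app (O₀ X) ≫ DerivedCategory.Q.map ((FE E).map ((adjE E).homEquiv (O₀ X) I p)) from
        (ltCounit E).naturality _, Category.assoc, ← Functor.map_comp, ← (adjE E).homEquiv_counit,
      Equiv.symm_apply_apply]
  have key' : e₀.hom ≫ α ≫ η =
      (DCoh.RSheafHomAdj E).homEquiv _ _ υ.hom ≫ (DCoh.RSheafHom E).map (DerivedCategory.Q.map s) := by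
    rw [show α ≫ η = (DCoh.RSheafHomAdj E).homEquiv _ _ ((DCoh.LTensorCx E).map α ≫ ε) from
      ((DCoh.RSheafHomAdj E).homEquiv_naturality_left α ε).symm, key,
      ← (DCoh.RSheafHomAdj E).homEquiv_naturality_left, ← (DCoh.RSheafHomAdj E).homEquiv_naturality_right]
    congr 1
    simp [υ]
  haveI : IsIso (e₀.hom ≫ α ≫ η) := by rw [key']; infer_instance
  haveI : IsIso (α ≫ η) := IsIso.of_isIso_comp_left e₀.hom _
  haveI : IsIso α := IsIso.of_isIso_comp_right α η
  exact (DerivedCategory.isIso_Q_map_iff_quasiIso _ _).1 (inferInstanceAs (IsIso α))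

/-- biduality for the structure sheaf -/
theorem qisOn_bd_zero {E : CochainComplex X.Modules ℤ} (hE : DCoh.IsKFlat E) (s : E ⟶ I) [QuasiIso s]
    (h : ∀ (x : X) (W : X.Opens), x ∈ W → RigidD.RigidNear (DCoh.toD X E) x W) : QisOn V (bd I (O₀ X)) := by
  let G := (GE (O₀ X)).obj I
  let w : E ⟶ G := s ≫ ((geUnitIso (X := X)).app I).inv
  haveI : QuasiIso w := by infer_instance
  haveI := isIso_ev_unit (feUnitIso (X := X)) I
  haveI : QuasiIso ((DCoh.tensorCx.obj (O₀ X)).map w) := quasiIso_obj_map_of_kFlat isKFlat_O₀ w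
  let p : tns (O₀ X) E ⟶ I := (DCoh.tensorCx.obj (O₀ X)).map w ≫ swp (ev (O₀ X) I)
  haveI : QuasiIso p := by infer_instance
  haveI := quasiIso_adjunct I hE s p h
  haveI := quasiIso_gmap w I
  have hc : (adjE E).homEquiv (O₀ X) I p = bd I (O₀ X) ≫ (gmap w).app I := by
    refine ((adjE E).homEquiv _ _).symm.injective ?_
    rw [homEquiv_gmap', Equiv.symm_apply_apply, bd, adjunctE, Equiv.symm_apply_apply]
    rfl
  haveI : QuasiIso (bd I (O₀ X) ≫ (gmap w).app I) := by rw [← hc]; infer_instance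
  haveI := quasiIso_of_comp_right (bd I (O₀ X)) ((gmap w).app I)
  exact qisOn_of_quasiIso V _

theorem qisOn_bd_single (h0 : QisOn V (bd I (O₀ X))) (k : ℤ) :
    QisOn V (bd I ((single X.Modules (ComplexShape.up ℤ) k).obj (Coh.structureModule X))) := by
  induction k using Int.induction_on with
  | zero => exact h0
  | succ m ih =>
    refine (qisOn_bd_shift_iff I _).2 (qisOn_bd_of_iso I ?_ ih)
    exact (((CochainComplex.singleFunctors X.Modules).shiftIso 1 (m : ℤ) ((m : ℤ) + 1) (by lia)).app _).symm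
  | pred m ih =>
    exact qisOn_bd_of_iso I (((CochainComplex.singleFunctors X.Modules).shiftIso 1 (-(m : ℤ) - 1) (-(m : ℤ))
      (by lia)).app _) ((qisOn_bd_shift_iff I _).1 ih)

end Local

/-- biduality for extensions by zero of bounded complexes of finite free modules -/
theorem qisOn_bd_eC {W : Scheme.{u}} (j : W ⟶ X) [IsOpenImmersion j] (I : CochainComplex X.Modules ℤ)
    [I.IsKInjective] (h0 : QisOn j.opensRange (bd I (O₀ X)))
    (E : CochainComplex W.Modules ℤ) {a b : ℤ} (hab : ∀ i, i < a ∨ b < i → IsZero (E.X i))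
    (hfree : ∀ i, a ≤ i → i ≤ b → ∃ n : ℕ, Nonempty (E.X i ≅ FlatMod.freeMod W n)) :
    KFlatOn j.opensRange ((ProjForm.eC j).obj E) ∧ QisOn j.opensRange (bd I ((ProjForm.eC j).obj E)) := by
  let V := j.opensRange
  let Q : CochainComplex X.Modules ℤ → Prop := fun C => KFlatOn V C ∧ QisOn V (bd I C)
  have hflat : ∀ {C C'} (a : C ⟶ C'), (∀ y ∈ V, IsIso ((stCx y).map a)) → KFlatOn V C' → KFlatOn V C :=
    fun a ha h y hy => by
      haveI := ha y hy
      exact (DRingKP.rflat_iff _).1 (rflat_of_iso (asIso ((stCx y).map a)).symm ((DRingKP.rflat_iff _).2 (h y hy)))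
  have hiso : ∀ {C C'}, (C ≅ C') → Q C → Q C' := fun e h =>
    ⟨hflat e.inv (fun _ _ => inferInstance) h.1, qisOn_bd_of_iso I e h.2⟩
  have hzero : ∀ C, IsZero C → Q C := fun C h =>
    ⟨kFlatOn_of_contract V (Homotopy.ofEq (h.eq_of_src _ _)), qisOn_bd_of_contract I (Homotopy.ofEq (h.eq_of_src _ _))⟩
  have hmid : ∀ {S : ShortComplex (CochainComplex X.Modules ℤ)},
      (∀ n, (S.map (eval X.Modules (ComplexShape.up ℤ) n)).Splitting) → Q S.X₁ → Q S.X₃ → Q S.X₂ :=
    fun σ h₁ h₃ => ⟨(kFlatOn_twoThree σ).two h₁.1 h₃.1, (bd_twoThree I σ).two h₁.2 h₃.2⟩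
  have hfl : ∀ k : ℤ, KFlatOn V ((single X.Modules (ComplexShape.up ℤ) k).obj (Coh.structureModule X)) := fun k =>
    kFlatOn_of_isKFlat V ((rflat_iff_sch _).2 (rflat_single (B := schB X)
      (flatObj_of_isFlat (DerPerf.isFlat_structureModule X)) k))
  have hz : ∀ i, i < a ∨ b < i → IsZero (((ProjForm.eC j).obj E).X i) := fun i hi => (CxOX.extZero j).map_isZero (hab i hi)
  refine Stupid.prop_of_bounded _ Q hiso hzero hmid (fun i hi => hz i (Or.inl hi)) (fun i hi => hz i (Or.inr hi))
    fun i => ?_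
  by_cases hi : a ≤ i ∧ i ≤ b
  · obtain ⟨n, ⟨d⟩⟩ := hfree i hi.1 hi.2
    let e : (∐ fun _ : ULift.{u} (Fin n) => Coh.structureModule W) ≅ FlatMod.freeMod W n :=
      Limits.Sigma.whiskerEquiv (f := fun _ : ULift.{u} (Fin n) => Coh.structureModule W)
        (g := fun _ : Fin n => Coh.structureModule W) Equiv.ulift fun _ => Iso.refl _
    refine hiso ((sgl i).mapIso ((CxOX.extZero j).mapIso (e ≪≫ d.symm))) ?_
    obtain ⟨φ, hφ⟩ := exists_ext_to_free j (ULift.{u} (Fin n))
    have hst : ∀ y ∈ V, IsIso ((stCx y).map ((sgl i).map φ)) := fun y hy => by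
      haveI := hφ y hy
      exact (NatIso.isIso_map_iff
        (HomologicalComplex.singleMapHomologicalComplex (DerSch.stalkFunctor X y) (ComplexShape.up ℤ) i) φ).2
          (inferInstanceAs (IsIso ((single _ (ComplexShape.up ℤ) i).map ((DerSch.stalkFunctor X y).map φ))))
    obtain ⟨f1, f2⟩ : Q ((sgl i).obj (∐ fun _ : ULift.{u} (Fin n) => Coh.structureModule X)) :=
      prop_single_coprod Q hiso hzero hmid i _ fun _ => ⟨hfl i, qisOn_bd_single I h0 i⟩
    refine ⟨hflat _ hst f1, (qisOn_bd_iff_of_qisOn I ((sgl i).map φ) (fun y hy => ?_) (hflat _ hst f1) f1).2 f2⟩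
    haveI := hst y hy
    infer_instance
  · exact hzero _ ((single _ (ComplexShape.up ℤ) i).map_isZero (hz i (by omega)))

end Groth.Agent.RHomCx
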