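import Groth.Agent.RHomCx.Dual

/-!
`Hom(-, I)` into a K-injective complex inverts every quasi-isomorphism (no flatness).
-/

set_option autoImplicit false
set_option backward.isDefEq.respectTransparency false
set_option backward.isDefEq.respectTransparency.types false
set_option linter.style.haveILetI false
set_option linter.unusedSectionVars false
set_option maxHeartbeats 1000000

universe u

open CategoryTheory Limits AlgebraicGeometry HomologicalComplex MonoidalCategory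

attribute [local instance] HasDerivedCategory.standard

namespace Groth.Agent.RHomCx

open Groth.Agent.KFlat Groth.Agent.ProjForm

variable {X : Scheme.{u}}

/-- exactness tested on flat modules -/
lemma exactAt_GE_of_homotopy_flat {E I : CochainComplex X.Modules ℤ} (i : ℤ)
    (h : ∀ (Z : X.Modules), FlatObj (schB X) Z →
      ∀ φ : (FE E).obj ((single X.Modules (ComplexShape.up ℤ) i).obj Z) ⟶ I, Nonempty (Homotopy φ 0)) :
    ((GE E).obj I).ExactAt i := by
  rw [exactAt_iff' _ (i - 1) i (i + 1) (by simp) (by simp), ShortComplex.exact_iff_exact_up_to_refinements]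
  intro Z₀ x₀ hx₀
  obtain ⟨Z, p, hp, hZ⟩ := exists_flat_cover X.sheaf Z₀
  let x := p ≫ x₀
  have hx : x ≫ ((GE E).obj I).d i (i + 1) = 0 := by
    change (p ≫ x₀) ≫ _ = 0
    erw [Category.assoc, hx₀, comp_zero]
  let φ : (single X.Modules (ComplexShape.up ℤ) i).obj Z ⟶ (GE E).obj I :=
    mkHomFromSingle x fun j hj => by
      obtain rfl : i + 1 = j := hj
      exact hx
  obtain ⟨H⟩ := (homotopy_mate_iff E φ).2 (h Z hZ _)
  refine ⟨Z, p, hp, (singleObjXSelf (ComplexShape.up ℤ) i Z).inv ≫ H.hom i (i - 1), ?_⟩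
  have e := H.comm i
  rw [HomologicalComplex.zero_f, add_zero, dNext_eq H.hom (show (ComplexShape.up ℤ).Rel i (i + 1) from rfl),
    prevD_eq H.hom (show (ComplexShape.up ℤ).Rel (i - 1) i from by simp), single_obj_d, zero_comp, zero_add,
    mkHomFromSingle_f] at e
  change p ≫ x₀ = _ ≫ ((GE E).obj I).d (i - 1) i
  rw [Category.assoc, ← e, Iso.inv_hom_id_assoc]

/-- `Hom(C, I)` for acyclic `C` -/
lemma acyclic_GE_of_acyclic' {C : CochainComplex X.Modules ℤ} (h : C.Acyclic)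
    (I : CochainComplex X.Modules ℤ) [I.IsKInjective] : ((GE C).obj I).Acyclic := fun i =>
  exactAt_GE_of_homotopy_flat i fun Z hZ φ => by
    have h1 : (((tens (schB X)).obj C).obj ((single X.Modules (ComplexShape.up ℤ) i).obj Z)).Acyclic :=
      acyclic_tens_single (schB X) h hZ i
    have h2 : ((FE C).obj ((single X.Modules (ComplexShape.up ℤ) i).obj Z)).Acyclic :=
      acyclic_of_iso (swapIso (B := schB X) (braid X.sheaf) C ((single X.Modules (ComplexShape.up ℤ) i).obj Z)) h1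
    exact ⟨CochainComplex.IsKInjective.homotopyZero φ h2⟩

/-- **`Hom(-, I)` of a quasi-isomorphism** -/
theorem quasiIso_gmap {C C' : CochainComplex X.Modules ℤ} (a : C ⟶ C') [QuasiIso a]
    (I : CochainComplex X.Modules ℤ) [I.IsKInjective] : QuasiIso ((gmap a).app I) := by
  let b : C⟦(-1 : ℤ)⟧ ⟶ C'⟦(-1 : ℤ)⟧ := a⟦(-1 : ℤ)⟧'
  haveI : QuasiIso b := (DerivedCategory.isIso_Q_map_iff_quasiIso _ _).1
    ((NatIso.isIso_map_iff (DerivedCategory.Q.commShiftIso (-1 : ℤ)) a).2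
      (inferInstanceAs (IsIso ((DerivedCategory.Q.map a)⟦(-1 : ℤ)⟧'))))
  let m := CochainComplex.mappingCone.map b (𝟙 (C'⟦(-1 : ℤ)⟧)) b (𝟙 _) rfl
  let φ : coneSC b ⟶ coneSC (𝟙 (C'⟦(-1 : ℤ)⟧)) :=
    { τ₁ := 𝟙 _
      τ₂ := m
      τ₃ := b⟦(1 : ℤ)⟧'
      comm₁₂ := (CochainComplex.mappingCone.triangleMap b (𝟙 (C'⟦(-1 : ℤ)⟧)) b (𝟙 _) rfl).comm₂.symm
      comm₂₃ := (CochainComplex.mappingCone.triangleMap b (𝟙 (C'⟦(-1 : ℤ)⟧)) b (𝟙 _) rfl).comm₃.symm }
  let ψ : gSC (coneSC (𝟙 (C'⟦(-1 : ℤ)⟧))) I ⟶ gSC (coneSC b) I :=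
    { τ₁ := (gmap φ.τ₃).app I
      τ₂ := (gmap φ.τ₂).app I
      τ₃ := (gmap φ.τ₁).app I
      comm₁₂ := by
        change (gmap φ.τ₃).app I ≫ (gmap (coneSC b).g).app I = (gmap (coneSC _).g).app I ≫ (gmap φ.τ₂).app I
        rw [← NatTrans.comp_app, ← NatTrans.comp_app, ← gmap_comp, ← gmap_comp, φ.comm₂₃]
      comm₂₃ := by
        change (gmap φ.τ₂).app I ≫ (gmap (coneSC b).f).app I = (gmap (coneSC _).f).app I ≫ (gmap φ.τ₁).app I
        rw [← NatTrans.comp_app, ← NatTrans.comp_app, ← gmap_comp, ← gmap_comp, φ.comm₁₂] }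
  haveI h₂ : QuasiIso ψ.τ₂ := by
    have h1 : ((GE (CochainComplex.mappingCone (𝟙 (C'⟦(-1 : ℤ)⟧)))).obj I).Acyclic :=
      acyclic_GE_of_acyclic' (mappingCone_acyclic _) I
    have h2 : ((GE (CochainComplex.mappingCone b)).obj I).Acyclic := acyclic_GE_of_acyclic' (mappingCone_acyclic b) I
    refine ⟨fun i => ?_⟩
    exact (quasiIsoAt_iff_exactAt (ψ.τ₂) i (h1 i)).2 (h2 i)
  haveI h₃ : QuasiIso ψ.τ₃ := by
    change QuasiIso ((gmap (𝟙 _)).app I)
    rw [gmap_id]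
    infer_instance
  haveI : QuasiIso ((gmap (b⟦(1 : ℤ)⟧')).app I) :=
    quasiIso_τ₁' ψ (shortExact_gSC (coneSplitting (𝟙 (C'⟦(-1 : ℤ)⟧))) I) (shortExact_gSC (coneSplitting b) I)
  let e : ∀ D : CochainComplex X.Modules ℤ, (D⟦(-1 : ℤ)⟧)⟦(1 : ℤ)⟧ ≅ D :=
    fun D => (shiftFunctorCompIsoId _ (-1 : ℤ) 1 (by omega)).app D
  have he : a = (e C).inv ≫ b⟦(1 : ℤ)⟧' ≫ (e C').hom := by
    rw [Iso.eq_inv_comp]
    exact ((shiftFunctorCompIsoId _ (-1 : ℤ) 1 (by omega)).hom.naturality a).symm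
  haveI : ∀ {D D' : CochainComplex X.Modules ℤ} (w : D ≅ D'), IsIso ((gmap w.hom).app I) := fun w =>
    ⟨(gmap w.inv).app I, by rw [← NatTrans.comp_app, ← gmap_comp, w.inv_hom_id, gmap_id]; rfl,
      by rw [← NatTrans.comp_app, ← gmap_comp, w.hom_inv_id, gmap_id]; rfl⟩
  haveI : IsIso ((gmap (e C).inv).app I) :=
    (inferInstanceAs (IsIso ((gmap (e C).symm.hom).app I)))
  rw [he, gmap_comp, gmap_comp, NatTrans.comp_app, NatTrans.comp_app]
  infer_instance

end Groth.Agent.RHomCx
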