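import Groth.Agent.RHomCx.Main
import Groth.Agent.ProjForm.Range

/-!
Contravariant functoriality of internal Hom complexes over an open subscheme.
-/

set_option autoImplicit false
set_option backward.isDefEq.respectTransparency false
set_option backward.isDefEq.respectTransparency.types false
set_option linter.style.haveILetI false
set_option linter.unusedSectionVars false

universe u

open CategoryTheory Limits AlgebraicGeometry HomologicalComplex MonoidalCategory

attribute [local instance] HasDerivedCategory.standard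

namespace Groth.Agent.RHomCx

open Groth.Agent.KFlat Groth.Agent.ProjForm

section Generic

/-- componentwise isomorphisms of total tensor products -/
lemma isIso_tt {A : Type*} [Category* A] [Abelian A] (B : A ⥤ A ⥤ A) [B.Additive] [∀ X, (B.obj X).Additive]
    [∀ (K L : CochainComplex A ℤ), HomologicalComplex.HasMapBifunctor K L B (ComplexShape.up ℤ)]
    {K K' L L' : CochainComplex A ℤ} (a : ∀ p, L.X p ⟶ L'.X p) (b : ∀ q, K.X q ⟶ K'.X q) (n : ℤ)
    (h : ∀ p q, IsIso ((B.map (a p)).app (K.X q) ≫ (B.obj (L'.X p)).map (b q))) : IsIso (tt B a b n) :=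
  ⟨mapBifunctorDesc fun p q hpq => inv ((B.map (a p)).app (K.X q) ≫ (B.obj (L'.X p)).map (b q)) ≫
      ιMapBifunctor L K B (ComplexShape.up ℤ) p q n hpq,
    mapBifunctor.hom_ext fun p q hpq => by
      rw [← Category.assoc, ι_tt, Category.assoc, Category.assoc, ι_mapBifunctorDesc, ← Category.assoc,
        ← Category.assoc, Category.assoc ((B.map (a p)).app (K.X q)), ← Category.assoc ((B.map (a p)).app (K.X q)),
        IsIso.hom_inv_id, Category.id_comp, Category.comp_id],
    mapBifunctor.hom_ext fun p q hpq => by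
      simp [ι_tt]⟩

end Generic

variable {X : Scheme.{u}} (V : X.Opens)

/-- `j_!A ⊗ a` is an isomorphism when `a` is one on stalks over `V` -/
lemma isIso_eC_obj_map {C C' : CochainComplex X.Modules ℤ} (a : C ⟶ C')
    (ha : ∀ y ∈ V, IsIso ((stCx y).map a)) (A : CochainComplex (V : Scheme.{u}).Modules ℤ) :
    IsIso ((DCoh.tensorCx.obj ((ProjForm.eC V.ι).obj A)).map a) := by
  haveI : ∀ n, IsIso (((DCoh.tensorCx.obj ((ProjForm.eC V.ι).obj A)).map a).f n) := fun n => by
    refine (congrArg IsIso (obj_map_f (schB X) ((ProjForm.eC V.ι).obj A) a n)).mpr ?_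
    refine isIso_tt (schB X) (L := (ProjForm.eC V.ι).obj A) (L' := (ProjForm.eC V.ι).obj A) _ _ n fun p q => ?_
    let M := ((ProjForm.eC V.ι).obj A).X p
    refine isIso_of_stalks _ fun y => ?_
    have h := stTensorIso_natural (𝟙 M) (a.f q) y
    haveI : IsIso ((DerSch.stalkFunctor X y).map (𝟙 M) ⊗ₘ (DerSch.stalkFunctor X y).map (a.f q)) := by
      by_cases hy : y ∈ V
      · haveI := ha y hy
        haveI : IsIso ((DerSch.stalkFunctor X y).map (a.f q)) :=
          inferInstanceAs (IsIso ((eval _ (ComplexShape.up ℤ) q).map ((stCx y).map a)))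
        infer_instance
      · have hz : IsZero ((DerSch.stalkFunctor X y).obj M) := isZero_stalk_extZero V (A.X p) y hy
        exact (((curriedTensor _).flip.obj _).map_isZero hz).isIso (((curriedTensor _).flip.obj _).map_isZero hz) _
    exact IsIso.of_isIso_fac_left h.symm
  exact HomologicalComplex.Hom.isIso_of_components _

/-- `j_!A ⊗ C` for `A` K-flat and `C` acyclic over `V` -/
lemma acyclic_eC_tens {A : CochainComplex (V : Scheme.{u}).Modules ℤ} (hA : DCoh.IsKFlat A)
    {C : CochainComplex X.Modules ℤ} (hC : AcycOn V C) :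
    ((DCoh.tensorCx.obj ((ProjForm.eC V.ι).obj A)).obj C).Acyclic := by
  refine acyclic_of_iso (swapIso (braid X.sheaf) C _) ((acyclic_iff_stalks _).2 fun y => ?_)
  refine acyclic_of_iso (stTotIso y _ _) ?_
  by_cases hy : y ∈ V
  · exact (DRingKP.rflat_iff _).2 ((isKFlat_iff_stalks _).1 (isKFlat_eC V hA) y) _ (hC y hy)
  · exact acyclic_of_isZero fun i => (eval _ (ComplexShape.up ℤ) i).map_isZero
      (((tens (DRingKP.tB (X.presheaf.stalk y))).obj ((stCx y).obj C)).map_isZero (isZero_stCx_eC V A y hy))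

/-- `j_!A ⊗ C` for `A` acyclic and `C` K-flat over `V` -/
lemma acyclic_eC_tens' {A : CochainComplex (V : Scheme.{u}).Modules ℤ} (hA : A.Acyclic)
    {C : CochainComplex X.Modules ℤ} (hC : KFlatOn V C) :
    ((DCoh.tensorCx.obj ((ProjForm.eC V.ι).obj A)).obj C).Acyclic := by
  refine (acyclic_iff_stalks _).2 fun y => acyclic_of_iso (stTotIso y _ _) ?_
  by_cases hy : y ∈ V
  · haveI := DQPush.preservesFiniteLimits_extZero V
    haveI : PreservesColimitsOfSize.{0, 0} (CxOX.extZero V.ι) :=
      (CxOX.extZeroAdj V.ι).leftAdjoint_preservesColimits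
    have h : ((ProjForm.eC V.ι).obj A).Acyclic := fun i => by
      rw [exactAt_iff]
      exact (hA i).map (CxOX.extZero V.ι)
    exact (DRingKP.rflat_iff _).2 (hC y hy) _ ((acyclic_iff_stalks _).1 h y)
  · exact acyclic_of_isZero fun i => (eval _ (ComplexShape.up ℤ) i).map_isZero
      (((tens (DRingKP.tB (X.presheaf.stalk y))).flip.obj ((stCx y).obj C)).map_isZero (isZero_stCx_eC V A y hy))

/-- maps into restrictions of internal Hom complexes -/
noncomputable def eEquiv (C I : CochainComplex X.Modules ℤ) (A : CochainComplex (V : Scheme.{u}).Modules ℤ) :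
    (A ⟶ (DCoh.restrictCx V).obj ((GE C).obj I)) ≃ ((FE C).obj ((ProjForm.eC V.ι).obj A) ⟶ I) :=
  ((adjR V).homEquiv A _).symm.trans ((adjE C).homEquiv _ I).symm

lemma eEquiv_gmap {C C' : CochainComplex X.Modules ℤ} (a : C ⟶ C') (I : CochainComplex X.Modules ℤ)
    {A : CochainComplex (V : Scheme.{u}).Modules ℤ} (φ : A ⟶ (DCoh.restrictCx V).obj ((GE C').obj I)) :
    eEquiv V C I A (φ ≫ (DCoh.restrictCx V).map ((gmap a).app I)) =
      (DCoh.tensorCx.obj ((ProjForm.eC V.ι).obj A)).map a ≫ eEquiv V C' I A φ := by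
  simp only [eEquiv, Equiv.trans_apply]
  rw [(adjR V).homEquiv_naturality_right_symm, homEquiv_gmap']

lemma homotopy_eEquiv_iff {C I : CochainComplex X.Modules ℤ} {A : CochainComplex (V : Scheme.{u}).Modules ℤ}
    (φ : A ⟶ (DCoh.restrictCx V).obj ((GE C).obj I)) :
    Nonempty (Homotopy φ 0) ↔ Nonempty (Homotopy (eEquiv V C I A φ) 0) := by
  rw [eEquiv, Equiv.trans_apply, ← homotopy_mate_iff]
  haveI : (CxOX.extZero V.ι).Additive := (CxOX.extZeroAdj V.ι).left_adjoint_additive
  constructor
  · rintro ⟨h⟩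
    refine ⟨(Homotopy.ofEq ((adjR V).homEquiv_counit _ _ φ)).trans
      ((((CxOX.extZero V.ι).mapHomotopy h).compRight ((adjR V).counit.app _)).trans
        (Homotopy.ofEq ?_))⟩
    rw [Functor.map_zero, zero_comp]
  · rintro ⟨h⟩
    refine ⟨(Homotopy.ofEq (((adjR V).homEquiv _ _).apply_symm_apply φ).symm).trans
      ((Homotopy.ofEq ((adjR V).homEquiv_unit _ _ _)).trans
        ((((Scheme.Modules.restrictFunctor V.ι).mapHomotopy h).compLeft ((adjR V).unit.app A)).trans
          (Homotopy.ofEq ?_)))⟩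
    rw [Functor.map_zero, comp_zero]

lemma eEquiv_sub {C I : CochainComplex X.Modules ℤ} {A : CochainComplex (V : Scheme.{u}).Modules ℤ}
    (φ ψ : A ⟶ (DCoh.restrictCx V).obj ((GE C).obj I)) :
    eEquiv V C I A (φ - ψ) = eEquiv V C I A φ - eEquiv V C I A ψ := by
  haveI : (ProjForm.eC V.ι).Additive := (adjR V).left_adjoint_additive
  simp only [eEquiv, Equiv.trans_apply, (adjR V).homEquiv_counit]
  rw [Functor.map_sub, Preadditive.sub_comp, mate_sub]

/-- restrictions of `Hom(C, I)` are K-injective when `C` is K-flat over `V` -/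
lemma isKInjective_restrict_GE {C : CochainComplex X.Modules ℤ} (hC : KFlatOn V C) (I : CochainComplex X.Modules ℤ)
    [I.IsKInjective] : CochainComplex.IsKInjective ((DCoh.restrictCx V).obj ((GE C).obj I)) := ⟨fun {A} φ hA =>
  (homotopy_eEquiv_iff V φ).2 ⟨CochainComplex.IsKInjective.homotopyZero _ (acyclic_eC_tens' V hA hC)⟩⟩

/-- quasi-isomorphisms over `V` and restriction -/
lemma qisOn_iff_quasiIso_restrictCx {K L : CochainComplex X.Modules ℤ} (u : K ⟶ L) :
    QisOn V u ↔ QuasiIso ((DCoh.restrictCx V).map u) := by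
  rw [qisOn_iff_restrict]
  have e : ∀ i, IsIso ((rV V).map (homologyMap u i)) ↔ IsIso (homologyMap ((DCoh.restrictCx V).map u) i) := fun i => by
    have e := ShortComplex.mapHomologyIso_hom_naturality
      ((HomologicalComplex.shortComplexFunctor X.Modules (ComplexShape.up ℤ) i).map u) (rV V)
    constructor <;> intro h
    · haveI : IsIso ((rV V).map (ShortComplex.homologyMap
          ((HomologicalComplex.shortComplexFunctor X.Modules (ComplexShape.up ℤ) i).map u))) := h
      exact IsIso.of_isIso_fac_right e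
    · haveI : IsIso (ShortComplex.homologyMap ((rV V).mapShortComplex.map
          ((HomologicalComplex.shortComplexFunctor X.Modules (ComplexShape.up ℤ) i).map u))) := h
      exact IsIso.of_isIso_fac_left e.symm
  exact ⟨fun h => ⟨fun i => (quasiIsoAt_iff_isIso_homologyMap _ i).2 ((e i).1 (h i))⟩,
    fun h i => (e i).2 ((quasiIsoAt_iff_isIso_homologyMap _ i).1 (h.quasiIsoAt i))⟩

/-- **`Hom(-, I)` of a quasi-isomorphism over `V`** -/
theorem qisOn_gmap {C C' : CochainComplex X.Modules ℤ} (a : C ⟶ C') (hC : KFlatOn V C) (hC' : KFlatOn V C')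
    (ha : QisOn V a) (I : CochainComplex X.Modules ℤ) [I.IsKInjective] : QisOn V ((gmap a).app I) := by
  rw [qisOn_iff_quasiIso_restrictCx, ← DerivedCategory.isIso_Q_map_iff_quasiIso, isIso_iff_yoneda_map_bijective]
  haveI := isKInjective_restrict_GE V hC I
  haveI := isKInjective_restrict_GE V hC' I
  intro Z
  let f := (DCoh.restrictCx V).map ((gmap a).app I)
  let Q₀ := (DerivedCategory.Q : CochainComplex (V : Scheme.{u}).Modules ℤ ⥤ _)
  haveI : Q₀.EssSurj := Localization.essSurj _
    (HomologicalComplex.quasiIso (V : Scheme.{u}).Modules (ComplexShape.up ℤ))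
  let A := (resF (V : Scheme.{u})).obj (Q₀.objPreimage Z)
  let e : Q₀.obj A ≅ Z := asIso (Q₀.map ((resψ _).app _)) ≪≫ Q₀.objObjPreimageIso Z
  let m := (DCoh.tensorCx.obj ((ProjForm.eC V.ι).obj A)).map a
  haveI hm : QuasiIso m := quasiIso_obj_map_of_acyclic (B := schB X) _ a
    (acyclic_eC_tens V (isKFlat_resF _) ((acycOn_cone_iff a).2 ha))
  have hA : Function.Bijective fun g : Q₀.obj A ⟶ Q₀.obj ((DCoh.restrictCx V).obj ((GE C').obj I)) =>
      g ≫ Q₀.map f := by
    constructor
    · intro g g' h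
      obtain ⟨φ, rfl⟩ := KInj.Q_map_surjective g
      obtain ⟨φ', rfl⟩ := KInj.Q_map_surjective g'
      dsimp only at h
      rw [← Q₀.map_comp, ← Q₀.map_comp] at h
      obtain ⟨H⟩ := KInj.nonempty_homotopy_of_Q_map_eq h
      rw [← Preadditive.sub_comp] at H
      obtain ⟨H'⟩ := (homotopy_eEquiv_iff V _).1 ⟨H⟩
      rw [eEquiv_gmap] at H'
      have h0 : DerivedCategory.Q.map (m ≫ eEquiv V C' I A (φ - φ')) = 0 :=
        (DerivedCategory.Q_map_eq_of_homotopy _ H').trans (Functor.map_zero _ _ _)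
      rw [Functor.map_comp] at h0
      have h1 : DerivedCategory.Q.map (eEquiv V C' I A (φ - φ')) = DerivedCategory.Q.map 0 := by
        rw [Functor.map_zero, ← cancel_epi (DerivedCategory.Q.map m), h0, comp_zero]
      obtain ⟨H₂⟩ := KInj.nonempty_homotopy_of_Q_map_eq h1
      rw [sub_zero] at H₂
      obtain ⟨H₃⟩ := (homotopy_eEquiv_iff V _).2 ⟨H₂⟩
      exact DerivedCategory.Q_map_eq_of_homotopy _ (Homotopy.equivSubZero.symm H₃)
    · intro t
      obtain ⟨ψ, rfl⟩ := KInj.Q_map_surjective t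
      obtain ⟨t₀, ht₀⟩ := KInj.Q_map_surjective
        (inv (DerivedCategory.Q.map m) ≫ DerivedCategory.Q.map (eEquiv V C I A ψ))
      refine ⟨Q₀.map ((eEquiv V C' I A).symm t₀), ?_⟩
      dsimp only
      rw [← Q₀.map_comp]
      have h1 : DerivedCategory.Q.map (eEquiv V C I A ((eEquiv V C' I A).symm t₀ ≫ f)) =
          DerivedCategory.Q.map (eEquiv V C I A ψ) := by
        rw [eEquiv_gmap, Equiv.apply_symm_apply, Functor.map_comp, ht₀, IsIso.hom_inv_id_assoc]
      obtain ⟨H⟩ := KInj.nonempty_homotopy_of_Q_map_eq h1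
      rw [← eEquiv_sub] at H
      obtain ⟨H'⟩ := (homotopy_eEquiv_iff V _).2 ⟨H⟩
      exact DerivedCategory.Q_map_eq_of_homotopy _ (Homotopy.equivSubZero.symm H')
  constructor
  · intro g g' h
    refine (cancel_epi e.hom).1 (hA.1 ?_)
    dsimp only at h ⊢
    rw [Category.assoc, Category.assoc, h]
  · intro t
    obtain ⟨g, hg⟩ := hA.2 (e.hom ≫ t)
    refine ⟨e.inv ≫ g, ?_⟩
    dsimp only at hg ⊢
    rw [Category.assoc, hg, Iso.inv_hom_id_assoc]

/-- `Hom(-, I)` of an isomorphism over `V` -/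
theorem isIso_restrict_gmap {C C' : CochainComplex X.Modules ℤ} (a : C ⟶ C')
    (ha : ∀ y ∈ V, IsIso ((stCx y).map a)) (I : CochainComplex X.Modules ℤ) :
    IsIso ((DCoh.restrictCx V).map ((gmap a).app I)) := by
  rw [isIso_iff_yoneda_map_bijective]
  intro A
  haveI := isIso_eC_obj_map V a ha A
  have h : (fun φ : A ⟶ (DCoh.restrictCx V).obj ((GE C').obj I) => φ ≫ (DCoh.restrictCx V).map ((gmap a).app I)) =
      (eEquiv V C I A).symm ∘
        (fun ψ => (DCoh.tensorCx.obj ((ProjForm.eC V.ι).obj A)).map a ≫ ψ) ∘ eEquiv V C' I A := by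
    funext φ
    rw [Function.comp_apply, Function.comp_apply, ← eEquiv_gmap, Equiv.symm_apply_apply]
  rw [h]
  exact (eEquiv V C I A).symm.bijective.comp
    (((Iso.homFromEquiv (asIso ((DCoh.tensorCx.obj ((ProjForm.eC V.ι).obj A)).map a)).symm).bijective).comp
      (eEquiv V C' I A).bijective)

end Groth.Agent.RHomCx
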