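import Groth.Agent.RHomCx.Restrict

/-!
`RHom(K, M)|_U = RHom(K|_U, M|_U)`.
-/

set_option autoImplicit false
set_option backward.isDefEq.respectTransparency false
set_option backward.isDefEq.respectTransparency.types false
set_option linter.style.haveILetI false
set_option linter.unusedSectionVars false

universe u

open CategoryTheory Limits AlgebraicGeometry HomologicalComplex

attribute [local instance] HasDerivedCategory.standard

namespace Groth.Agent.RHomCx

open Groth.Agent.KFlat

/-- the derived adjunction of exact functors -/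
noncomputable def derivedAdj' {A B : Type (u + 1)} [Category.{u} A] [Category.{u} B] [Abelian A] [Abelian B] {L : A ⥤ B} {R : B ⥤ A}
    [L.Additive] [R.Additive] [PreservesFiniteLimits L] [PreservesFiniteColimits L] [PreservesFiniteLimits R]
    [PreservesFiniteColimits R] (adj : L ⊣ R) : L.mapDerivedCategory ⊣ R.mapDerivedCategory :=
  letI : CatCommSq (L.mapHomologicalComplex (ComplexShape.up ℤ)) (DerivedCategory.Q : CochainComplex A ℤ ⥤ _)
      DerivedCategory.Q L.mapDerivedCategory := ⟨L.mapDerivedCategoryFactors.symm⟩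
  letI : CatCommSq (R.mapHomologicalComplex (ComplexShape.up ℤ)) (DerivedCategory.Q : CochainComplex B ℤ ⥤ _)
      DerivedCategory.Q R.mapDerivedCategory := ⟨R.mapDerivedCategoryFactors.symm⟩
  (KInj.mapHomologicalComplexAdj adj (ComplexShape.up ℤ)).localization DerivedCategory.Q
    (HomologicalComplex.quasiIso A (ComplexShape.up ℤ)) DerivedCategory.Q
    (HomologicalComplex.quasiIso B (ComplexShape.up ℤ)) L.mapDerivedCategory R.mapDerivedCategory

variable {X : Scheme.{u}} (U : X.Opens) (K : CochainComplex X.Modules ℤ)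

/-- `j_!(A ⊗ K|_U) = j_!A ⊗ K`, with restriction by `restrictCx` -/
noncomputable def thetaIso' :
    FE ((DCoh.restrictCx U).obj K) ⋙ ProjForm.eC U.ι ≅ ProjForm.eC U.ι ⋙ FE K :=
  Functor.isoWhiskerRight ((DCoh.tensorCx (X := (U : Scheme.{u}))).flip.mapIso
    ((NatIso.mapHomologicalComplex (Scheme.Modules.restrictFunctorIsoPullback U.ι) (ComplexShape.up ℤ)).app K)) _ ≪≫
    thetaIso U K

variable [DCoh.HasLTensorCx K] [DCoh.HasLTensorCx ((DCoh.restrictCx U).obj K)]

/-- the resolution followed by `Q` -/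
noncomputable def resQIso (Y : Scheme.{u}) : resF Y ⋙ DerivedCategory.Q ≅ DerivedCategory.Q :=
  haveI : ∀ A, IsIso (DerivedCategory.Q.map ((resψ Y).app A)) := fun A => inferInstance
  NatIso.ofComponents (fun A => asIso (DerivedCategory.Q.map ((resψ Y).app A))) fun {A B} a =>
    (DerivedCategory.Q.map_comp _ _).symm.trans
      ((congrArg DerivedCategory.Q.map ((resψ Y).naturality a)).trans (DerivedCategory.Q.map_comp _ _))

/-- `⊗^L` on resolved complexes -/
noncomputable def resLTIso {Y : Scheme.{u}} (E : CochainComplex Y.Modules ℤ) [DCoh.HasLTensorCx E]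
    (F : CochainComplex (U : Scheme.{u}).Modules ℤ ⥤ CochainComplex Y.Modules ℤ)
    (hF : ∀ A, DCoh.IsKFlat (F.obj A)) :
    F ⋙ DerivedCategory.Q ⋙ DCoh.LTensorCx E ≅ F ⋙ FE E ⋙ DerivedCategory.Q :=
  haveI : ∀ A, IsIso ((ltCounit E).app (F.obj A)) := fun A => isIso_ltCounit_app E (hF A)
  NatIso.ofComponents (fun A => asIso ((ltCounit E).app (F.obj A))) fun a => (ltCounit E).naturality (F.map a)

/-- **the projection formula for `j_!`** -/
theorem nonempty_extZero_LTensorCx [PreservesFiniteLimits (CxOX.extZero U.ι)] :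
    Nonempty ((CxOX.extZero U.ι).mapDerivedCategory ⋙ DCoh.LTensorCx K ≅
      DCoh.LTensorCx ((DCoh.restrictCx U).obj K) ⋙ (CxOX.extZero U.ι).mapDerivedCategory) := by
  let Q₀ := (DerivedCategory.Q : CochainComplex (U : Scheme.{u}).Modules ℤ ⥤ _)
  let W := HomologicalComplex.quasiIso (U : Scheme.{u}).Modules (ComplexShape.up ℤ)
  let e := resQIso (U : Scheme.{u})
  let fac := (CxOX.extZero U.ι).mapDerivedCategoryFactors
  refine ⟨Localization.liftNatIso Q₀ W
    (Q₀ ⋙ (CxOX.extZero U.ι).mapDerivedCategory ⋙ DCoh.LTensorCx K)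
    (Q₀ ⋙ DCoh.LTensorCx ((DCoh.restrictCx U).obj K) ⋙ (CxOX.extZero U.ι).mapDerivedCategory) _ _ ?_⟩
  exact Functor.isoWhiskerRight e.symm _ ≪≫ Functor.associator _ _ _ ≪≫
    Functor.isoWhiskerLeft (resF _) ((Functor.associator _ _ _).symm ≪≫ Functor.isoWhiskerRight fac _ ≪≫
      Functor.associator _ _ _) ≪≫
    (Functor.associator _ _ _).symm ≪≫
    resLTIso U K (resF _ ⋙ ProjForm.eC U.ι) (fun A => isKFlat_eC U (isKFlat_resF A)) ≪≫
    Functor.associator _ _ _ ≪≫
    Functor.isoWhiskerLeft (resF _) ((Functor.associator _ _ _).symm ≪≫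
      Functor.isoWhiskerRight (thetaIso' U K).symm _ ≪≫ Functor.associator _ _ _ ≪≫
      Functor.isoWhiskerLeft _ fac.symm ≪≫ (Functor.associator _ _ _).symm) ≪≫
    (Functor.associator _ _ _).symm ≪≫
    Functor.isoWhiskerRight ((resLTIso U ((DCoh.restrictCx U).obj K) (resF _) isKFlat_resF).symm ≪≫
      (Functor.associator _ _ _).symm ≪≫ Functor.isoWhiskerRight e _) _ ≪≫
    Functor.associator _ _ _

/-- **`RHom` commutes with restriction** -/
theorem nonempty_restrict_RSheafHom [DCoh.HasRSheafHom K] [DCoh.HasRSheafHom ((DCoh.restrictCx U).obj K)]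
    (M : DCoh.D X) :
    Nonempty ((DCoh.restrictD U.ι).obj ((DCoh.RSheafHom K).obj M) ≅
      (DCoh.RSheafHom ((DCoh.restrictCx U).obj K)).obj ((DCoh.restrictD U.ι).obj M)) := by
  haveI := DQPush.preservesFiniteLimits_extZero U
  haveI : PreservesFiniteColimits (CxOX.extZero U.ι) := by
    haveI : PreservesColimitsOfSize.{0, 0} (CxOX.extZero U.ι) :=
      (CxOX.extZeroAdj U.ι).leftAdjoint_preservesColimits
    infer_instance
  haveI : IsIso (CxOX.extZeroAdj U.ι).unit := ProjForm.isIso_extZero_unit U.ι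
  obtain ⟨Φ⟩ := nonempty_extZero_LTensorCx U K
  let a : (CxOX.extZero U.ι).mapDerivedCategory ⊣ DCoh.restrictD U.ι := derivedAdj' (CxOX.extZeroAdj U.ι)
  exact ⟨(((a.comp (DCoh.RSheafHomAdj K)).ofNatIsoLeft Φ).rightAdjointUniq
    ((DCoh.RSheafHomAdj ((DCoh.restrictCx U).obj K)).comp a)).app M⟩
end Groth.Agent.RHomCx
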